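/-
PSL(2,7) inside PSU(3,3): a three dimensional unitary representation of SL(2,7) over a field with nine elements.
-/
import Mathlib
import Cfsg.Prelude.Def_Classical

set_option autoImplicit false

namespace H71.UThree

/-- Entries `a + b i` with `a b` modulo 3. -/
abbrev Gi := ℕ × ℕ

def ga (x y : Gi) : Gi := ((x.1 + y.1) % 3, (x.2 + y.2) % 3)
def gm (x y : Gi) : Gi := ((x.1 * y.1 + 2 * (x.2 * y.2)) % 3, (x.1 * y.2 + x.2 * y.1) % 3)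
def gc (x : Gi) : Gi := (x.1, (2 * x.2) % 3)
def a3 (x y z : Gi) : Gi := ga (ga x y) z

/-- A 3×3 matrix. -/
structure M3 where
  m00 : Gi
  m01 : Gi
  m02 : Gi
  m10 : Gi
  m11 : Gi
  m12 : Gi
  m20 : Gi
  m21 : Gi
  m22 : Gi
deriving DecidableEq

def M3.mul (A B : M3) : M3 :=
  ⟨a3 (gm A.m00 B.m00) (gm A.m01 B.m10) (gm A.m02 B.m20),
    a3 (gm A.m00 B.m01) (gm A.m01 B.m11) (gm A.m02 B.m21),
    a3 (gm A.m00 B.m02) (gm A.m01 B.m12) (gm A.m02 B.m22),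
    a3 (gm A.m10 B.m00) (gm A.m11 B.m10) (gm A.m12 B.m20),
    a3 (gm A.m10 B.m01) (gm A.m11 B.m11) (gm A.m12 B.m21),
    a3 (gm A.m10 B.m02) (gm A.m11 B.m12) (gm A.m12 B.m22),
    a3 (gm A.m20 B.m00) (gm A.m21 B.m10) (gm A.m22 B.m20),
    a3 (gm A.m20 B.m01) (gm A.m21 B.m11) (gm A.m22 B.m21),
    a3 (gm A.m20 B.m02) (gm A.m21 B.m12) (gm A.m22 B.m22)⟩

/-- `Aᵀ · conj A`. -/
def M3.gram (A : M3) : M3 :=
  ⟨a3 (gm A.m00 (gc A.m00)) (gm A.m10 (gc A.m10)) (gm A.m20 (gc A.m20)),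
    a3 (gm A.m00 (gc A.m01)) (gm A.m10 (gc A.m11)) (gm A.m20 (gc A.m21)),
    a3 (gm A.m00 (gc A.m02)) (gm A.m10 (gc A.m12)) (gm A.m20 (gc A.m22)),
    a3 (gm A.m01 (gc A.m00)) (gm A.m11 (gc A.m10)) (gm A.m21 (gc A.m20)),
    a3 (gm A.m01 (gc A.m01)) (gm A.m11 (gc A.m11)) (gm A.m21 (gc A.m21)),
    a3 (gm A.m01 (gc A.m02)) (gm A.m11 (gc A.m12)) (gm A.m21 (gc A.m22)),
    a3 (gm A.m02 (gc A.m00)) (gm A.m12 (gc A.m10)) (gm A.m22 (gc A.m20)),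
    a3 (gm A.m02 (gc A.m01)) (gm A.m12 (gc A.m11)) (gm A.m22 (gc A.m21)),
    a3 (gm A.m02 (gc A.m02)) (gm A.m12 (gc A.m12)) (gm A.m22 (gc A.m22))⟩

def M3.det (A : M3) : Gi :=
  ga (ga (ga (ga (ga (gm (gm A.m00 A.m11) A.m22) (gm (2, 0) (gm (gm A.m00 A.m12) A.m21))) (gm (2, 0) (gm (gm A.m01 A.m10) A.m22))) (gm (gm A.m01 A.m12) A.m20)) (gm (gm A.m02 A.m10) A.m21)) (gm (2, 0) (gm (gm A.m02 A.m11) A.m20))

def oneM : M3 := ⟨(1, 0), (0, 0), (0, 0), (0, 0), (1, 0), (0, 0), (0, 0), (0, 0), (1, 0)⟩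
def wM : M3 := ⟨(0, 0), (1, 2), (1, 1), (1, 1), (1, 0), (0, 2), (1, 2), (0, 1), (1, 0)⟩

def upM : ℕ → M3
  | 0 => ⟨(1, 0), (0, 0), (0, 0), (0, 0), (1, 0), (0, 0), (0, 0), (0, 0), (1, 0)⟩
  | 1 => ⟨(0, 0), (1, 1), (1, 1), (0, 0), (1, 1), (2, 2), (0, 1), (0, 0), (0, 0)⟩
  | 2 => ⟨(2, 1), (0, 2), (0, 1), (1, 2), (0, 2), (0, 1), (0, 0), (2, 1), (2, 1)⟩
  | 3 => ⟨(2, 0), (2, 2), (0, 1), (2, 0), (0, 2), (1, 1), (2, 2), (1, 0), (2, 0)⟩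
  | 4 => ⟨(2, 0), (2, 0), (2, 1), (2, 1), (0, 1), (1, 0), (0, 2), (1, 2), (2, 0)⟩
  | 5 => ⟨(2, 2), (1, 1), (0, 0), (0, 1), (0, 1), (2, 2), (0, 2), (0, 2), (2, 2)⟩
  | _ => ⟨(0, 0), (0, 0), (0, 2), (1, 2), (1, 2), (0, 0), (1, 2), (2, 1), (0, 0)⟩

def tcM : ℕ → M3
  | 0 => ⟨(1, 0), (0, 0), (0, 0), (0, 0), (1, 0), (0, 0), (0, 0), (0, 0), (1, 0)⟩
  | 1 => ⟨(1, 0), (0, 0), (0, 0), (0, 0), (1, 0), (0, 0), (0, 0), (0, 0), (1, 0)⟩
  | 2 => ⟨(0, 1), (2, 2), (1, 0), (1, 2), (1, 0), (2, 0), (0, 2), (1, 0), (2, 2)⟩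
  | 3 => ⟨(0, 2), (1, 1), (0, 1), (2, 1), (1, 0), (1, 0), (1, 0), (2, 0), (2, 1)⟩
  | 4 => ⟨(0, 2), (1, 1), (0, 1), (2, 1), (1, 0), (1, 0), (1, 0), (2, 0), (2, 1)⟩
  | 5 => ⟨(0, 1), (2, 2), (1, 0), (1, 2), (1, 0), (2, 0), (0, 2), (1, 0), (2, 2)⟩
  | _ => ⟨(1, 0), (0, 0), (0, 0), (0, 0), (1, 0), (0, 0), (0, 0), (0, 0), (1, 0)⟩

def inv7 (n : ℕ) : ℕ := n ^ 5 % 7

/-- The image of the matrix with rows `(a, b)`, `(c, d)`. -/
def img (a b c d : ℕ) : M3 :=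
  if c = 0 then (tcM a).mul (upM (b * inv7 a % 7))
  else ((upM (a * inv7 c % 7)).mul wM).mul ((tcM c).mul (upM (d * inv7 c % 7)))

abbrev Quad := ℕ × ℕ × ℕ × ℕ

def stepQ (q : Quad) (g : Bool) : Quad :=
  if g then (q.1, (q.1 + q.2.1) % 7, q.2.2.1, (q.2.2.1 + q.2.2.2) % 7)
  else (q.2.1, (6 * q.1) % 7, q.2.2.2, (6 * q.2.2.1) % 7)

def imgQ (q : Quad) : M3 := img q.1 q.2.1 q.2.2.1 q.2.2.2

def tWord (c : ℕ) : List Bool :=
  List.replicate c true ++ [false] ++ List.replicate (inv7 c) true ++ [false, false, false] ++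
    List.replicate c true ++ [false]

/-- A word in the two generators for a matrix. -/
def word (q : Quad) : List Bool :=
  if q.2.2.1 = 0 then tWord q.1 ++ List.replicate (q.2.1 * inv7 q.1 % 7) true
  else List.replicate (q.1 * inv7 q.2.2.1 % 7) true ++ [false] ++ tWord q.2.2.1 ++
    List.replicate (q.2.2.2 * inv7 q.2.2.1 % 7) true

def genM (g : Bool) : M3 := if g then upM 1 else wM

def check (q : Quad) : Bool :=
  decide (List.foldl stepQ (1, 0, 0, 1) (word q) = q) &&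
  decide (imgQ (stepQ q true) = (imgQ q).mul (genM true)) &&
  decide (imgQ (stepQ q false) = (imgQ q).mul (genM false)) &&
  decide ((imgQ q).gram = oneM) && decide ((imgQ q).det = (1, 0)) &&
  (if (imgQ q).mul (genM true) = (genM true).mul (imgQ q) ∧
      (imgQ q).mul (genM false) = (genM false).mul (imgQ q) then
    decide (q = (1, 0, 0, 1) ∨ q = (6, 0, 0, 6)) else true)

def checkRow (a b c : ℕ) : Bool :=
  (List.range 7).all fun d => if (a * d + 6 * (b * c)) % 7 = 1 then check (a, b, c, d) else true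

theorem checkAll :
    ((List.range 7).all fun a => (List.range 7).all fun b => (List.range 7).all fun c => checkRow a b c) = true := by
  decide +kernel

theorem check_of_det {a b c d : ℕ} (ha : a < 7) (hb : b < 7) (hc : c < 7) (hd : d < 7)
    (h : (a * d + 6 * (b * c)) % 7 = 1) : check (a, b, c, d) = true := by
  have h1 := List.all_eq_true.mp checkAll a (List.mem_range.mpr ha)
  have h2 := List.all_eq_true.mp h1 b (List.mem_range.mpr hb)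
  have h3 := List.all_eq_true.mp h2 c (List.mem_range.mpr hc)
  have h4 := List.all_eq_true.mp h3 d (List.mem_range.mpr hd)
  rwa [if_pos h] at h4

end H71.UThree
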