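/-
PSL(2,7) as a subgroup of PSU(3,3).
-/
import Cfsg.Agent.H71.UThreeData

set_option autoImplicit false

open Matrix

namespace H71.UThree

variable {F : Type*} [Field F]

/-- The value of a code, given a square root `t` of `-1`. -/
def val (t : F) (x : Gi) : F := (x.1 : F) + (x.2 : F) * t

def toMat (t : F) (A : M3) : Matrix (Fin 3) (Fin 3) F :=
  !![val t A.m00, val t A.m01, val t A.m02; val t A.m10, val t A.m11, val t A.m12; val t A.m20, val t A.m21, val t A.m22]

theorem sum_sq_zero : ∀ u v : ZMod 3, u ^ 2 + v ^ 2 = 0 → u = 0 ∧ v = 0 := by decide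

section
variable [CharP F 3] {t : F} (ht : t * t = -1)

theorem cast_mod (n : ℕ) : ((n % 3 : ℕ) : F) = (n : F) :=
  CharP.natCast_eq_natCast' F 3 (Nat.mod_modEq n 3)

theorem three_eq : (3 : F) = 0 := by exact_mod_cast CharP.cast_eq_zero F 3

theorem val_ga (x y : Gi) : val t (ga x y) = val t x + val t y := by
  simp only [val, ga, cast_mod, Nat.cast_add]
  ring

include ht

theorem val_gm (x y : Gi) : val t (gm x y) = val t x * val t y := by
  simp only [val, gm, cast_mod, Nat.cast_add, Nat.cast_mul, Nat.cast_ofNat]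
  linear_combination (x.2 * y.2 : F) * (three_eq (F := F)) - (x.2 * y.2 : F) * ht

omit ht in
theorem val_a3 (x y z : Gi) : val t (a3 x y z) = val t x + val t y + val t z := by
  simp only [a3, val_ga]

theorem cube_val (x : Gi) : val t x ^ 3 = val t (gc x) := by
  haveI : Fact (Nat.Prime 3) := ⟨by norm_num⟩
  have h1 : ∀ n : ℕ, (n : F) ^ 3 = n := fun n => by
    have := map_pow (ZMod.castHom (dvd_refl 3) F) (n : ZMod 3) 3
    rw [ZMod.pow_card, map_natCast] at this
    exact this.symm
  simp only [val, gc, cast_mod, Nat.cast_mul, Nat.cast_ofNat]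
  rw [add_pow_char, mul_pow, h1, h1]
  linear_combination (x.2 : F) * t * ht - (x.2 : F) * t * (three_eq (F := F))

theorem val_inj {x y : Gi} (h : val t x = val t y) : (x.1 : F) = y.1 ∧ (x.2 : F) = y.2 := by
  haveI : Fact (Nat.Prime 3) := ⟨by norm_num⟩
  have hs := sum_sq_zero
  set φ := ZMod.castHom (dvd_refl 3) F
  obtain ⟨h1, h2⟩ := hs ((x.1 : ZMod 3) - y.1) ((y.2 : ZMod 3) - x.2) (φ.injective (by
    simp only [map_add, map_pow, map_sub, map_natCast, map_zero]
    simp only [val] at h
    linear_combination ((x.1 : F) - y.1 + ((y.2 : F) - x.2) * t) * h + ((y.2 : F) - x.2) ^ 2 * ht))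
  have e1 := congrArg φ (sub_eq_zero.mp h1)
  have e2 := congrArg φ (sub_eq_zero.mp h2)
  simp only [map_natCast] at e1 e2
  exact ⟨e1, e2.symm⟩

theorem toMat_mul (A B : M3) : toMat t (A.mul B) = toMat t A * toMat t B := by
  ext i j
  fin_cases i <;> fin_cases j <;>
    simp [toMat, M3.mul, Matrix.mul_apply, Fin.sum_univ_three, val_a3, val_gm ht]

theorem det_toMat (A : M3) : (toMat t A).det = val t A.det := by
  rw [Matrix.det_fin_three]
  have h2 : val t (2, 0) = -1 := by
    simp only [val, Nat.cast_zero, zero_mul, add_zero, Nat.cast_ofNat]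
    linear_combination three_eq (F := F)
  simp only [M3.det, val_ga, val_gm ht, h2]
  simp [toMat]
  ring

omit ht in
theorem val_one : val t (1, 0) = 1 := by simp [val]

omit ht in
theorem val_zero : val t (0, 0) = 0 := by simp [val]

omit ht in
theorem toMat_oneM : toMat t oneM = 1 := by
  ext i j
  fin_cases i <;> fin_cases j <;> simp [toMat, oneM, val]

theorem herm_toMat {A : M3} (hA : A.gram = oneM) (u v : Fin 3 → F) :
    Cfsg.hermForm 3 F 3 (toMat t A *ᵥ u) (toMat t A *ᵥ v) = Cfsg.hermForm 3 F 3 u v := by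
  haveI : Fact (Nat.Prime 3) := ⟨by norm_num⟩
  simp only [M3.gram, oneM, M3.mk.injEq] at hA
  obtain ⟨e00, e01, e02, e10, e11, e12, e20, e21, e22⟩ := hA
  replace e00 := congrArg (val t) e00
  replace e01 := congrArg (val t) e01
  replace e02 := congrArg (val t) e02
  replace e10 := congrArg (val t) e10
  replace e11 := congrArg (val t) e11
  replace e12 := congrArg (val t) e12
  replace e20 := congrArg (val t) e20
  replace e21 := congrArg (val t) e21
  replace e22 := congrArg (val t) e22
  simp only [val_a3, val_gm ht, ← cube_val ht, val_one, val_zero] at e00 e01 e02 e10 e11 e12 e20 e21 e22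
  simp only [Cfsg.hermForm, Matrix.mulVec, dotProduct, Fin.sum_univ_three, add_pow_char, mul_pow]
  simp only [toMat, Matrix.of_apply, Matrix.cons_val', Matrix.cons_val_zero, Matrix.cons_val_one,
    Matrix.cons_val, Matrix.empty_val', Matrix.cons_val_fin_one]
  linear_combination (u 0 * v 0 ^ 3) * e00 + (u 0 * v 1 ^ 3) * e01 + (u 0 * v 2 ^ 3) * e02 +
    (u 1 * v 0 ^ 3) * e10 + (u 1 * v 1 ^ 3) * e11 + (u 1 * v 2 ^ 3) * e12 +
    (u 2 * v 0 ^ 3) * e20 + (u 2 * v 1 ^ 3) * e21 + (u 2 * v 2 ^ 3) * e22

end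

/-- Quadruple of a matrix in SL(2,7). -/
def quad (g : SpecialLinearGroup (Fin 2) (ZMod 7)) : Quad :=
  ((g.1 0 0).val, (g.1 0 1).val, (g.1 1 0).val, (g.1 1 1).val)

def genG (b : Bool) : SpecialLinearGroup (Fin 2) (ZMod 7) :=
  if b then ⟨!![1, 1; 0, 1], by decide⟩ else ⟨!![0, -1; 1, 0], by decide⟩

theorem quad_one : quad 1 = (1, 0, 0, 1) := by decide

theorem quad_inj {g h : SpecialLinearGroup (Fin 2) (ZMod 7)} (e : quad g = quad h) : g = h := by
  simp only [quad, Prod.mk.injEq] at e
  obtain ⟨a, b, c, d⟩ := e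
  apply Subtype.ext
  ext i j
  fin_cases i <;> fin_cases j <;> exact ZMod.val_injective 7 (by assumption)

theorem quad_step (g : SpecialLinearGroup (Fin 2) (ZMod 7)) (b : Bool) :
    quad (g * genG b) = stepQ (quad g) b := by
  unfold quad
  rw [show (g * genG b).1 = g.1 * (genG b).1 from rfl]
  cases b
  · simp only [genG, stepQ, Matrix.mul_apply, Fin.sum_univ_two]
    have h : ∀ x : ZMod 7, (-x).val = 6 * x.val % 7 := by decide
    simp [h, Matrix.mul_apply, Fin.sum_univ_two]
  · simp only [genG, stepQ, Matrix.mul_apply, Fin.sum_univ_two]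
    simp [ZMod.val_add, Matrix.mul_apply, Fin.sum_univ_two]

theorem quad_check (g : SpecialLinearGroup (Fin 2) (ZMod 7)) : check (quad g) = true := by
  refine check_of_det (ZMod.val_lt _) (ZMod.val_lt _) (ZMod.val_lt _) (ZMod.val_lt _) ?_
  have h := g.2
  rw [Matrix.det_fin_two] at h
  have h7 : (((g.1 0 0).val * (g.1 1 1).val + 6 * ((g.1 0 1).val * (g.1 1 0).val) : ℕ) : ZMod 7) = 1 := by
    push_cast [ZMod.natCast_zmod_val]
    rw [show (6 : ZMod 7) = -1 by decide]
    linear_combination h
  have := congrArg ZMod.val h7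
  rwa [ZMod.val_natCast] at this

theorem check_spec {q : Quad} (h : check q = true) :
    List.foldl stepQ (1, 0, 0, 1) (word q) = q ∧ (∀ b, imgQ (stepQ q b) = (imgQ q).mul (genM b)) ∧
      (imgQ q).gram = oneM ∧ (imgQ q).det = (1, 0) ∧
      ((imgQ q).mul (genM true) = (genM true).mul (imgQ q) →
        (imgQ q).mul (genM false) = (genM false).mul (imgQ q) → q = (1, 0, 0, 1) ∨ q = (6, 0, 0, 6)) := by
  simp only [check, Bool.and_eq_true, decide_eq_true_eq] at h
  obtain ⟨⟨⟨⟨⟨h1, h2⟩, h3⟩, h4⟩, h5⟩, h6⟩ := h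
  refine ⟨h1, fun b => by cases b; exacts [h3, h2], h4, h5, fun c1 c2 => ?_⟩
  rw [if_pos ⟨c1, c2⟩] at h6
  exact of_decide_eq_true h6

theorem quad_foldl (l : List Bool) : ∀ g : SpecialLinearGroup (Fin 2) (ZMod 7),
    quad (g * (l.map genG).prod) = List.foldl stepQ (quad g) l := by
  induction l with
  | nil => simp
  | cons b l ih =>
    intro g
    rw [List.map_cons, List.prod_cons, ← mul_assoc, ih, quad_step, List.foldl_cons]

theorem eq_word (g : SpecialLinearGroup (Fin 2) (ZMod 7)) : g = ((word (quad g)).map genG).prod :=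
  quad_inj (by
    conv_rhs => rw [← one_mul (List.prod _), quad_foldl, quad_one, (check_spec (quad_check g)).1])

variable [CharP F 3] {t : F} (ht : t * t = -1)

/-- The representation on matrices. -/
def repMat (t : F) (g : SpecialLinearGroup (Fin 2) (ZMod 7)) : Matrix (Fin 3) (Fin 3) F :=
  toMat t (imgQ (quad g))

include ht

theorem repMat_word (l : List Bool) : ∀ g : SpecialLinearGroup (Fin 2) (ZMod 7),
    repMat t (g * (l.map genG).prod) = repMat t g * (l.map fun b => toMat t (genM b)).prod := by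
  induction l with
  | nil => simp
  | cons b l ih =>
    intro g
    rw [List.map_cons, List.prod_cons, ← mul_assoc, ih, List.map_cons, List.prod_cons, ← mul_assoc]
    congr 1
    rw [repMat, quad_step, (check_spec (quad_check g)).2.1 b, toMat_mul ht]
    rfl

omit ht in
theorem repMat_one : repMat t 1 = 1 := by
  rw [repMat, quad_one, show imgQ (1, 0, 0, 1) = oneM from by decide +kernel, toMat_oneM]

theorem repMat_mul (g h : SpecialLinearGroup (Fin 2) (ZMod 7)) : repMat t (g * h) = repMat t g * repMat t h := by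
  conv_lhs => rw [eq_word h]
  conv_rhs => arg 2; rw [eq_word h, ← one_mul (List.prod _), repMat_word ht, repMat_one, one_mul]
  exact repMat_word ht _ g

/-- The representation into `SU(3,3)`. -/
def repHom : SpecialLinearGroup (Fin 2) (ZMod 7) →* Cfsg.SU 3 F 3 where
  toFun g := ⟨⟨repMat t g, by rw [repMat, det_toMat ht, (check_spec (quad_check g)).2.2.2.1, val_one]⟩,
    fun u v => herm_toMat ht (check_spec (quad_check g)).2.2.1 u v⟩
  map_one' := Subtype.ext (Subtype.ext repMat_one)
  map_mul' g h := Subtype.ext (Subtype.ext (repMat_mul ht g h))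

omit ht in
theorem repMat_genG (b : Bool) : repMat t (genG b) = toMat t (genM b) := by
  cases b <;> exact congrArg (toMat t) (by decide +kernel)

theorem eq_pm_one_of_central (g : SpecialLinearGroup (Fin 2) (ZMod 7))
    (h : repHom ht g ∈ Subgroup.center (Cfsg.SU 3 F 3)) : g = 1 ∨ g = -1 := by
  have hs := check_spec (quad_check g)
  have hc : ∀ b, (imgQ (quad g)).mul (genM b) = (genM b).mul (imgQ (quad g)) := by
    intro b
    have h1 := congrArg (fun x : Cfsg.SU 3 F 3 => x.1.1) (Subgroup.mem_center_iff.mp h (repHom ht (genG b)))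
    change repMat t (genG b) * repMat t g = repMat t g * repMat t (genG b) at h1
    rw [repMat_genG, repMat, ← toMat_mul ht, ← toMat_mul ht] at h1
    generalize imgQ (quad g) = A at h1 ⊢
    generalize genM b = B at h1 ⊢
    have hred : ∀ x y z x' y' z' : Gi, val t (a3 x y z) = val t (a3 x' y' z') → a3 x y z = a3 x' y' z' := by
      intro x y z x' y' z' he
      obtain ⟨e1, e2⟩ := val_inj ht he
      have e1' := (CharP.natCast_eq_natCast F 3).mp e1
      have e2' := (CharP.natCast_eq_natCast F 3).mp e2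
      simp only [a3, ga, Nat.ModEq, Nat.mod_mod] at e1' e2'
      exact Prod.ext e1' e2'
    simp only [M3.mul, M3.mk.injEq]
    refine ⟨hred _ _ _ _ _ _ ?_, hred _ _ _ _ _ _ ?_, hred _ _ _ _ _ _ ?_, hred _ _ _ _ _ _ ?_,
      hred _ _ _ _ _ _ ?_, hred _ _ _ _ _ _ ?_, hred _ _ _ _ _ _ ?_, hred _ _ _ _ _ _ ?_, hred _ _ _ _ _ _ ?_⟩
    exacts [(congrFun (congrFun h1 0) 0).symm, (congrFun (congrFun h1 0) 1).symm, (congrFun (congrFun h1 0) 2).symm,
      (congrFun (congrFun h1 1) 0).symm, (congrFun (congrFun h1 1) 1).symm, (congrFun (congrFun h1 1) 2).symm,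
      (congrFun (congrFun h1 2) 0).symm, (congrFun (congrFun h1 2) 1).symm, (congrFun (congrFun h1 2) 2).symm]
  rcases hs.2.2.2.2 (hc true) (hc false) with e | e
  · exact Or.inl (quad_inj (e.trans quad_one.symm))
  · exact Or.inr (quad_inj (e.trans (by decide)))

theorem repHom_neg_one : repHom ht (-1) = 1 :=
  Subtype.ext (Subtype.ext (by
    show repMat t (-1) = 1
    rw [repMat, show quad (-1) = (6, 0, 0, 6) from by decide,
      show imgQ (6, 0, 0, 6) = oneM from by decide +kernel, toMat_oneM]))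

end H71.UThree
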