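import Mathlib
import Cfsg.Agent.H4.RealLift
import Cfsg.Agent.H65.BaerSuzuki

/-!
A finite group in whose subgroups no two class sizes greater than one are coprime is solvable,
given the odd order theorem.
-/

set_option autoImplicit false
set_option linter.style.haveILetI false

open Subgroup

namespace H71.ClassCoprime

variable {G : Type*} [Group G] [Finite G]

theorem no_inverted_two
    (h : ∀ (H : Subgroup G) (x y : H), 1 < (centralizer ({x} : Set H)).index →
      1 < (centralizer ({y} : Set H)).index →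
      ¬ ((centralizer ({x} : Set H)).index).Coprime (centralizer ({y} : Set H)).index)
    {y g : G} (hy1 : y ≠ 1) (hyodd : Odd (orderOf y))
    (hinv : g * y * g⁻¹ = y⁻¹) : False := by
  let S : Subgroup G :=
    { carrier := {b | b * y * b⁻¹ = y ∨ b * y * b⁻¹ = y⁻¹}
      one_mem' := Or.inl (by group)
      mul_mem' := by
        rintro a b ha hb
        have e : a * b * y * (a * b)⁻¹ = a * (b * y * b⁻¹) * a⁻¹ := by group
        have ei : a * y⁻¹ * a⁻¹ = (a * y * a⁻¹)⁻¹ := by group
        simp only [Set.mem_setOf_eq] at *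
        rw [e]
        rcases hb with hb | hb
        · rw [hb]; exact ha
        · rw [hb, ei]
          rcases ha with ha | ha
          · right; rw [ha]
          · left; rw [ha, inv_inv]
      inv_mem' := by
        rintro a ha
        simp only [Set.mem_setOf_eq, inv_inv] at *
        rcases ha with ha | ha
        · left
          conv_lhs => rw [← ha]
          group
        · right
          have e : a⁻¹ * (a * y * a⁻¹)⁻¹ * a = y⁻¹ := by group
          rw [← e, ha, inv_inv] }
  have hne : y⁻¹ ≠ y := by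
    intro e
    have h2 : y ^ 2 = 1 := by rw [pow_two]; nth_rewrite 1 [← e]; group
    rcases (Nat.dvd_prime Nat.prime_two).mp (orderOf_dvd_of_pow_eq_one h2) with h1 | h1
    · exact hy1 (orderOf_eq_one_iff.mp h1)
    · rw [h1] at hyodd; exact absurd hyodd (by decide)
  -- replace `g` by a power of two-power order
  obtain ⟨m, k, ⟨j, hj⟩, hk⟩ := H4.RealZJ.exists_odd_pow_two_pow g
  have hg2 : (g ^ 2) * y * (g ^ 2)⁻¹ = y := by
    calc g ^ 2 * y * (g ^ 2)⁻¹ = g * (g * y * g⁻¹) * g⁻¹ := by rw [pow_two]; group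
      _ = g * y⁻¹ * g⁻¹ := by rw [hinv]
      _ = (g * y * g⁻¹)⁻¹ := by group
      _ = y := by rw [hinv, inv_inv]
  set t := g ^ m with ht
  have htinv : t * y * t⁻¹ = y⁻¹ := by
    have hc : Commute (g ^ 2) y := by
      have := congrArg (· * g ^ 2) hg2
      simpa [mul_assoc, Commute, SemiconjBy] using this
    have hcj : Commute ((g ^ 2) ^ j) y := hc.pow_left j
    rw [ht, hj, pow_succ, pow_mul]
    calc (g ^ 2) ^ j * g * y * ((g ^ 2) ^ j * g)⁻¹
        = (g ^ 2) ^ j * (g * y * g⁻¹) * ((g ^ 2) ^ j)⁻¹ := by group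
      _ = y⁻¹ := by rw [hinv, hcj.inv_right.eq]; group
  have hord : orderOf t ∣ 2 ^ k := orderOf_dvd_of_pow_eq_one (by rw [ht]; exact hk)
  set H : Subgroup G := zpowers y ⊔ zpowers t with hH
  have hHS : H ≤ S := sup_le (zpowers_le.mpr (Or.inl (by group)))
    (zpowers_le.mpr (Or.inr htinv))
  have hyH : y ∈ H := (le_sup_left : zpowers y ≤ H) (mem_zpowers y)
  have htH : t ∈ H := (le_sup_right : zpowers t ≤ H) (mem_zpowers t)
  let y' : H := ⟨y, hyH⟩
  let t' : H := ⟨t, htH⟩
  have hC : (centralizer ({y'} : Set H)).index = 2 := by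
    have hmem : ∀ b : H, b ∈ centralizer ({y'} : Set H) ↔ (b : G) * y * (b : G)⁻¹ = y := by
      intro b
      rw [mem_centralizer_singleton_iff, mul_inv_eq_iff_eq_mul, Subtype.ext_iff]
      exact Iff.rfl
    rw [index_eq_two_iff]
    refine ⟨t', fun b => ?_⟩
    have e : ((b * t' : H) : G) * y * ((b * t' : H) : G)⁻¹
        = ((b : G) * y * (b : G)⁻¹)⁻¹ := by
      calc ((b * t' : H) : G) * y * ((b * t' : H) : G)⁻¹
          = (b : G) * (t * y * t⁻¹) * (b : G)⁻¹ := by
            simp only [Subgroup.coe_mul, t']; group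
        _ = ((b : G) * y * (b : G)⁻¹)⁻¹ := by rw [htinv]; group
    rw [hmem, hmem, e]
    rcases hHS b.2 with hb | hb
    · exact Or.inr ⟨hb, by rw [hb]; exact hne⟩
    · exact Or.inl ⟨by rw [hb, inv_inv], by rw [hb]; exact hne⟩
  set D := centralizer ({t'} : Set H) with hD
  have hN : (zpowers y').Normal := by
    refine ⟨fun n hn b => ?_⟩
    obtain ⟨i, rfl⟩ := mem_zpowers_iff.mp hn
    rw [← conj_zpow]
    rcases hHS b.2 with hb | hb
    · rw [show b * y' * b⁻¹ = y' from Subtype.ext hb]
      exact zpow_mem (mem_zpowers y') i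
    · rw [show b * y' * b⁻¹ = y'⁻¹ from Subtype.ext hb]
      exact zpow_mem (inv_mem (mem_zpowers y')) i
  have htop : zpowers t' ⊔ zpowers y' = ⊤ := by
    apply map_injective H.subtype_injective
    rw [Subgroup.map_sup, MonoidHom.map_zpowers, MonoidHom.map_zpowers,
      ← MonoidHom.range_eq_map, range_subtype]
    exact sup_comm _ _
  have hcard : Nat.card H ∣ orderOf y * orderOf t := by
    haveI := hN
    have h1 : (zpowers y').index ∣ Nat.card (zpowers t') := by
      have := Subgroup.relIndex_sup_left (zpowers t') (zpowers y')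
      rw [sup_comm, htop, relIndex_top_right] at this
      rw [this]
      exact relIndex_dvd_card _ _
    have h2 := (zpowers y').card_mul_index
    rw [Nat.card_zpowers, orderOf_mk] at h1
    rw [Nat.card_zpowers, orderOf_mk] at h2
    rw [← h2]
    exact mul_dvd_mul_left _ h1
  have hDdvd : D.index ∣ orderOf y := by
    have htD : orderOf t ∣ Nat.card D := by
      have : zpowers t' ≤ D := zpowers_le.mpr (mem_centralizer_singleton_iff.mpr rfl)
      have := card_dvd_of_le this
      rwa [Nat.card_zpowers, orderOf_mk] at this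
    have h1 : D.index * orderOf t ∣ orderOf y * orderOf t :=
      dvd_trans (mul_dvd_mul_left _ htD) (by rw [D.index_mul_card]; exact hcard)
    exact Nat.dvd_of_mul_dvd_mul_right (orderOf_pos t) h1
  have hD1 : 1 < D.index := by
    rcases Nat.lt_or_ge 1 D.index with h1 | h1
    · exact h1
    exfalso
    have h0 : D.index ≠ 0 := index_ne_zero_of_finite
    have hy : y' ∈ D := by rw [index_eq_one.mp (by omega : D.index = 1)]; exact mem_top _
    rw [hD, mem_centralizer_singleton_iff, Subtype.ext_iff] at hy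
    have hy2 : y * t = t * y := hy
    exact hne (by rw [← htinv, ← hy2]; group)
  refine h H y' t' (by rw [hC]; norm_num) hD1 ?_
  rw [hC]
  exact ((Nat.prime_two.coprime_iff_not_dvd).mpr fun h2 =>
    (Nat.not_even_iff_odd.mpr hyodd) (even_iff_two_dvd.mpr (h2.trans hDdvd)))

theorem isSolvable
    (hFT : ∀ (N : Subgroup G) [N.Normal], Odd (Nat.card (G ⧸ N)) → Group.IsSolvable (G ⧸ N))
    (h : ∀ (H : Subgroup G) (x y : H), 1 < (centralizer ({x} : Set H)).index →
      1 < (centralizer ({y} : Set H)).index →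
      ¬ ((centralizer ({x} : Set H)).index).Coprime (centralizer ({y} : Set H)).index) :
    Group.IsSolvable G := by
  by_contra hns
  obtain ⟨R, ⟨hRn, hRs⟩, hRmax⟩ :=
    Set.Finite.exists_maximal (s := {N : Subgroup G | N.Normal ∧ Group.IsSolvable N})
      (Set.toFinite _) ⟨⊥, inferInstance, inferInstance⟩
  haveI := hRn
  haveI := hRs
  set π := QuotientGroup.mk' R with hπ
  have hπs : Function.Surjective π := QuotientGroup.mk'_surjective R
  -- the quotient has even order
  have heven : 2 ∣ Nat.card (G ⧸ R) := by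
    by_contra h2
    haveI : Group.IsSolvable (G ⧸ R) :=
      hFT R (Nat.not_even_iff_odd.mp fun he => h2 (even_iff_two_dvd.mp he))
    exact hns (Group.isSolvable_of_ker_le_range R.subtype π
      (by rw [hπ, QuotientGroup.ker_mk', range_subtype]))
  haveI : Fact (Nat.Prime 2) := ⟨Nat.prime_two⟩
  obtain ⟨τ, hτ⟩ := exists_prime_orderOf_dvd_card' 2 heven
  have hτO : τ ∉ Cfsg.pCore 2 (G ⧸ R) := by
    intro hτc
    have hp : IsPGroup 2 (Cfsg.pCore 2 (G ⧸ R)) := H1.isPGroup_pCore 2 (G ⧸ R)
    set M := (Cfsg.pCore 2 (G ⧸ R)).comap π with hM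
    haveI := H1.pCore_normal' 2 (G ⧸ R)
    haveI : M.Normal := by rw [hM]; exact Subgroup.Normal.comap inferInstance π
    have hRM : R ≤ M := fun a ha => by
      rw [hM, mem_comap, show π a = 1 from (QuotientGroup.eq_one_iff a).mpr ha]
      exact one_mem _
    have hMs : Group.IsSolvable M := by
      haveI := hp.isNilpotent
      let φ : M →* Cfsg.pCore 2 (G ⧸ R) := π.subgroupComap _
      refine Group.isSolvable_of_ker_le_range (inclusion hRM) φ fun a ha => ?_
      have : π (a : G) = 1 := congrArg Subtype.val ha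
      exact ⟨⟨a, (QuotientGroup.eq_one_iff (a : G)).mp this⟩, Subtype.ext rfl⟩
    have hMR : M ≤ R := hRmax ⟨inferInstance, hMs⟩ hRM
    obtain ⟨a, rfl⟩ := hπs τ
    have : π a = 1 := (QuotientGroup.eq_one_iff a).mpr (hMR hτc)
    rw [this, orderOf_one] at hτ
    omega
  obtain ⟨η, hη1, hηodd, hηinv⟩ := H65.exists_odd_inverted hτ hτO
  set r := (orderOf η).minFac with hr
  have hrp : r.Prime := Nat.minFac_prime fun e => hη1 (orderOf_eq_one_iff.mp e)
  haveI : Fact r.Prime := ⟨hrp⟩
  obtain ⟨q, hq⟩ : r ∣ orderOf η := Nat.minFac_dvd _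
  set ξ := η ^ q with hξ
  have hq0 : q ≠ 0 := fun e => (orderOf_pos η).ne' (by rw [hq, e, mul_zero])
  have hξr : orderOf ξ = r := by
    rw [hξ, orderOf_pow_of_dvd hq0 (hq ▸ dvd_mul_left q r), hq,
      Nat.mul_div_cancel _ (Nat.pos_of_ne_zero hq0)]
  have hrodd : Odd r := hηodd.of_dvd_nat (Nat.minFac_dvd _)
  have hξinv : τ * ξ * τ⁻¹ = ξ⁻¹ := by rw [hξ, ← conj_pow, hηinv, inv_pow]
  set X := (zpowers ξ).comap π with hX
  obtain ⟨s, hs⟩ := hπs τ
  have hsX : s ∈ normalizer (X : Set G) := by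
    apply mem_normalizer_iff.mpr
    intro a
    simp only [hX, mem_comap, map_mul, map_inv, hs]
    have hconj : ∀ i : ℤ, τ * ξ ^ i * τ⁻¹ = ξ ^ (-i) := fun i => by
      rw [← conj_zpow, hξinv, inv_zpow, zpow_neg]
    constructor
    · intro ha
      obtain ⟨i, hi⟩ := mem_zpowers_iff.mp ha
      exact mem_zpowers_iff.mpr ⟨-i, by rw [← hi, hconj]⟩
    · intro ha
      obtain ⟨i, hi⟩ := mem_zpowers_iff.mp ha
      refine mem_zpowers_iff.mpr ⟨-i, ?_⟩
      have := hconj (-i)
      rw [neg_neg, hi] at this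
      exact mul_left_cancel (mul_right_cancel this)
  set K := normalizer (X : Set G) with hK
  -- an `r`-element mapping onto a generator of the cyclic group
  obtain ⟨a0, ha0⟩ := hπs ξ
  obtain ⟨c, d, hd, hcd⟩ := Nat.exists_eq_pow_mul_and_not_dvd (orderOf_pos a0).ne' r hrp.ne_one
  set y := a0 ^ d with hy
  have hyX : y ∈ X := by
    rw [hX, mem_comap, hy, map_pow, ha0]
    exact pow_mem (mem_zpowers ξ) d
  have hπy : π y ≠ 1 := by
    rw [hy, map_pow, ha0]
    intro e
    exact hd (hξr ▸ orderOf_dvd_of_pow_eq_one e)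
  have hyp : y ^ r ^ c = 1 := by rw [hy, ← pow_mul, mul_comm, ← hcd, pow_orderOf_eq_one]
  let X' : Subgroup K := X.subgroupOf K
  have hXK : X ≤ K := le_normalizer
  let y' : X' := ⟨⟨y, hXK hyX⟩, hyX⟩
  have hy'p : IsPGroup r (zpowers y') := by
    refine IsPGroup.of_card (n := ?_) ?_
    · exact (Nat.dvd_prime_pow hrp).mp (orderOf_dvd_of_pow_eq_one
        (show y' ^ r ^ c = 1 from Subtype.ext (Subtype.ext hyp))) |>.choose
    · rw [Nat.card_zpowers]
      exact ((Nat.dvd_prime_pow hrp).mp (orderOf_dvd_of_pow_eq_one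
        (show y' ^ r ^ c = 1 from Subtype.ext (Subtype.ext hyp)))).choose_spec.2
  obtain ⟨P, hP⟩ := hy'p.exists_le_sylow
  have hfr := Sylow.normalizer_sup_eq_top P
  obtain ⟨n, hn, a, ha, hna⟩ :=
    mem_sup_of_normal_right.mp (hfr ▸ mem_top (⟨s, hsX⟩ : K))
  set P' := ((P : Subgroup X').map X'.subtype).map K.subtype with hP'
  have hyP : y ∈ P' := ⟨y', ⟨y', hP (mem_zpowers y'), rfl⟩, rfl⟩
  have hnP : (n : G) ∈ normalizer (P' : Set G) :=
    le_normalizer_map K.subtype (mem_map_of_mem _ hn)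
  have hπn : π (n : G) * π y * (π (n : G))⁻¹ = (π y)⁻¹ := by
    have haX : π (a : G) ∈ zpowers ξ := ha
    have hs' : π (n : G) * π (a : G) = τ := by
      rw [← map_mul, ← hs]
      exact congrArg (fun z : K => π (z : G)) hna
    have hyξ : π y ∈ zpowers ξ := hyX
    obtain ⟨i, hi⟩ := mem_zpowers_iff.mp hyξ
    obtain ⟨l, hl⟩ := mem_zpowers_iff.mp haX
    calc π (n : G) * π y * (π (n : G))⁻¹
        = π (n : G) * (π (a : G) * π y * (π (a : G))⁻¹) * (π (n : G))⁻¹ := by
          rw [← hi, ← hl, (Commute.refl ξ).zpow_zpow l i |>.eq]; group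
      _ = τ * π y * τ⁻¹ := by rw [← hs']; group
      _ = (π y)⁻¹ := by rw [← hi, ← conj_zpow, hξinv, inv_zpow]
  have hPp : IsPGroup r P' := (P.isPGroup'.map _).map _
  have hne2 : π y * π y ≠ 1 := by
    intro e
    have h2 : orderOf (π y) ∣ 2 := orderOf_dvd_of_pow_eq_one (by rw [pow_two]; exact e)
    have hdr : orderOf (π y) ∣ r := hξr ▸ orderOf_dvd_of_mem_zpowers hyX
    rcases (Nat.dvd_prime hrp).mp hdr with h1 | h1
    · exact hπy (orderOf_eq_one_iff.mp h1)
    · rw [h1] at h2
      rw [(Nat.prime_dvd_prime_iff_eq hrp Nat.prime_two).mp h2] at hrodd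
      exact absurd hrodd (by decide)
  obtain ⟨z, hz, hz1, g, -, hgz⟩ :=
    H4.RealZJ.exists_inverted_of_map π P' hyP hnP hπn hne2
  refine no_inverted_two h hz1 ?_ hgz
  obtain ⟨e, he⟩ := (hPp.exists_card_eq)
  refine (hrodd.pow (n := e)).of_dvd_nat (he ▸ ?_)
  rw [← Nat.card_zpowers]
  exact card_dvd_of_le (zpowers_le.mpr hz)

end H71.ClassCoprime
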