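/-
Automorphisms fixing a Sylow 2-subgroup pointwise: shape of the group (S0227, given the odd order theorem).
-/
import Cfsg.Agent.H85.SylowAut
import Mathlib.GroupTheory.Transfer
import Mathlib.GroupTheory.Solvable
import Cfsg.Agent.CompBasic

set_option autoImplicit false
set_option linter.style.haveILetI false

open Cfsg
open scoped commutatorElement

namespace H71.FixAut

theorem shape {C : Type*} [Group C] [Finite C] (hodd : Odd (Nat.card (commutator C))) (T : Sylow 2 C) :
    (∀ a b : T, a * b = b * a) ∧ ∃ N : Subgroup C, N.Normal ∧ Subgroup.IsComplement' N (T : Subgroup C) := by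
  haveI : Fact (Nat.Prime 2) := ⟨Nat.prime_two⟩
  have key : ∀ x ∈ (T : Subgroup C), x ∈ commutator C → x = 1 := by
    intro x hx hxc
    obtain ⟨k, hk⟩ := T.2 ⟨x, hx⟩
    have hk' : x ^ 2 ^ k = 1 := congrArg Subtype.val hk
    refine orderOf_eq_one_iff.1 (Nat.eq_one_of_dvd_coprimes ?_ (orderOf_dvd_of_pow_eq_one hk')
      (Subgroup.orderOf_dvd_natCard _ hxc))
    exact (Nat.coprime_two_left.2 hodd).pow_left k
  refine ⟨fun a b => Subtype.ext (commutatorElement_eq_one_iff_mul_comm.1 (key _ ?_
    (Subgroup.commutator_mem_commutator (Subgroup.mem_top _) (Subgroup.mem_top _)))), ?_⟩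
  · exact mul_mem (mul_mem (mul_mem a.2 b.2) (inv_mem a.2)) (inv_mem b.2)
  · have hle : Subgroup.normalizer ((T : Subgroup C) : Set C) ≤ Subgroup.centralizer (T : Set C) := by
      intro g hg t ht
      refine (commutatorElement_eq_one_iff_mul_comm.1 (key _ ?_
        (Subgroup.commutator_mem_commutator (Subgroup.mem_top g) (Subgroup.mem_top t)))).symm
      exact mul_mem ((Subgroup.mem_normalizer_iff.1 hg t).1 ht) (inv_mem ht)
    exact ⟨(MonoidHom.transferSylow T hle).ker, inferInstance,
      MonoidHom.ker_transferSylow_isComplement' T hle⟩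

/-- S0227, given that groups of odd order are solvable. -/
theorem fixes_sylow {G : Type*} [Group G] [Finite G]
    (hFT : ∀ D : Subgroup (MulAut G), Odd (Nat.card D) → Group.IsSolvable D)
    (hO : ∀ N : Subgroup G, N.Normal → Odd (Nat.card N) → N = ⊥) (S : Sylow 2 G)
    (C : Subgroup (MulAut G)) (hC : ∀ φ : MulAut G, φ ∈ C ↔ ∀ s : G, s ∈ S → φ s = s) :
    (∀ T : Sylow 2 ↥C, (∀ a b : ↥T, a * b = b * a) ∧
      ∃ N : Subgroup ↥C, N.Normal ∧ Subgroup.IsComplement' N (T : Subgroup ↥C)) ∧ Group.IsSolvable ↥C := by
  haveI : Finite (MulAut G) := Finite.of_injective (fun a : MulAut G => (a : G → G))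
    fun a b h => MulEquiv.ext (congrFun h)
  haveI : Fact (Nat.Prime 2) := ⟨Nat.prime_two⟩
  have hCeq : C = H85.fixAut (S : Subgroup G) := by
    ext φ
    exact hC φ
  subst hCeq
  have hodd := H85.odd_card_commutator_fixAut S (by
    haveI := H1.pPrimeCore_normal' 2 G
    refine hO _ inferInstance ?_
    rw [Nat.odd_iff, ← Nat.two_dvd_ne_zero]
    exact Cfsg.Comp.not_dvd_card_pPrimeCore 2)
  refine ⟨shape hodd, ?_⟩
  set C := H85.fixAut (S : Subgroup G)
  haveI : Group.IsSolvable (commutator C) := by
    have h := hFT ((commutator C).map C.subtype)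
      (by rwa [Subgroup.card_map_of_injective C.subtype_injective])
    exact Group.isSolvable_of_isSolvable_injective
      (f := ((commutator C).equivMapOfInjective C.subtype C.subtype_injective).toMonoidHom)
      ((commutator C).equivMapOfInjective C.subtype C.subtype_injective).injective
  haveI : Group.IsSolvable (C ⧸ commutator C) :=
    Group.isSolvable_of_comm fun a b => by
      obtain ⟨a, rfl⟩ := QuotientGroup.mk_surjective a
      obtain ⟨b, rfl⟩ := QuotientGroup.mk_surjective b
      rw [← QuotientGroup.mk_mul, ← QuotientGroup.mk_mul, QuotientGroup.eq]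
      have h := Subgroup.commutator_mem_commutator (Subgroup.mem_top b⁻¹) (Subgroup.mem_top a⁻¹)
      rw [commutatorElement_def, inv_inv, inv_inv] at h
      rw [mul_inv_rev]
      simpa [mul_assoc, commutator_def] using h
  exact Group.isSolvable_of_ker_le_range (f := (commutator C).subtype)
    (g := QuotientGroup.mk' (commutator C)) (by simp)

end H71.FixAut
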