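/-
Centralisers of self-centralising normal subgroups of F(H), H a Hall pi-subgroup, 2 and 3 outside pi.
-/
import Cfsg.Prelude.Def_EvenTechniques
import Cfsg.Agent.H1.Fitting
import Cfsg.Agent.H6.SL2Section
import Cfsg.Agent.H80.PiGroups
import Cfsg.Agent.H83.TrivAction
import Cfsg.Agent.H70.SL2Facts

set_option autoImplicit false

open Subgroup
open scoped commutatorElement

namespace H71

universe u

theorem not_involves_sl2_of_solvable {S : Type u} [Group S] [Finite S] [Group.IsSolvable S] {q : ℕ} [Fact q.Prime]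
    (hq : 5 ≤ q) : ¬ Cfsg.Involves (Matrix.SpecialLinearGroup (Fin 2) (ZMod q)) S := by
  rintro ⟨K, R, hn, ⟨e⟩⟩
  haveI := hn
  have hsol : Group.IsSolvable (Matrix.SpecialLinearGroup (Fin 2) (ZMod q)) :=
    Group.isSolvable_of_surjective (f := e.toMonoidHom.comp (QuotientGroup.mk' (R.subgroupOf K)))
      (e.surjective.comp (QuotientGroup.mk'_surjective _))
  have hperf := H70.sl2_perfect (F := ZMod q) (by rw [ZMod.card]; omega)
  haveI : Nontrivial (Matrix.SpecialLinearGroup (Fin 2) (ZMod q)) :=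
    ⟨⟨⟨!![1, 1; 0, 1], by simp [Matrix.det_fin_two]⟩, 1, fun h => by
      have := congrFun (congrFun (congrArg Subtype.val h) 0) 1
      simp at this⟩⟩
  exact (Group.IsSolvable.commutator_lt_top_of_nontrivial _).ne hperf

variable {S : Type u} [Group S] [Finite S]

/-- Elements of coprime order in an abelian normal part: induction on the order. -/
theorem commute_of_primePow_parts {g : S} (Z : Subgroup S) (q : ℕ)
    (h : ∀ z ∈ Z, ∀ r k : ℕ, r.Prime → r ≠ q → orderOf z = r ^ k → g * z = z * g) :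
    ∀ n : ℕ, ∀ z ∈ Z, orderOf z = n → ¬ q ∣ n → g * z = z * g := by
  intro n
  induction n using Nat.recOnPrimeCoprime with
  | zero => intro z _ hz; exact absurd hz (orderOf_pos z).ne'
  | prime_pow r k hr =>
    intro z hz ho hq
    rcases eq_or_ne k 0 with rfl | hk
    · rw [pow_zero, orderOf_eq_one_iff] at ho
      rw [ho, mul_one, one_mul]
    · exact h z hz r k hr (fun e => hq (e ▸ dvd_pow_self r hk)) ho
  | coprime a b _ _ hab iha ihb =>
    intro z hz ho hq
    have hb0 : b ≠ 0 := by rintro rfl; rw [mul_zero] at ho; exact (orderOf_pos z).ne' ho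
    have ha0 : a ≠ 0 := by rintro rfl; rw [zero_mul] at ho; exact (orderOf_pos z).ne' ho
    have h1 := iha (z ^ b) (pow_mem hz b) (by
      rw [orderOf_pow' z hb0, ho, Nat.gcd_mul_left_left, Nat.mul_div_cancel _ (Nat.pos_of_ne_zero hb0)])
      (fun hd => hq (dvd_mul_of_dvd_left hd b))
    have h2 := ihb (z ^ a) (pow_mem hz a) (by
      rw [orderOf_pow' z ha0, ho, Nat.gcd_mul_right_left, Nat.mul_div_cancel_left _ (Nat.pos_of_ne_zero ha0)])
      (fun hd => hq (dvd_mul_of_dvd_right hd a))
    have hbez : z = (z ^ a) ^ Nat.gcdA a b * (z ^ b) ^ Nat.gcdB a b := by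
      rw [← zpow_natCast z a, ← zpow_natCast z b, ← zpow_mul, ← zpow_mul, ← zpow_add, ← Nat.gcd_eq_gcd_ab,
        show Nat.gcd a b = 1 from hab, Nat.cast_one, zpow_one]
    rw [hbez]
    exact ((show Commute g (z ^ a) from h2).zpow_right _).mul_right ((show Commute g (z ^ b) from h1).zpow_right _)

/-- The case `O_{π'}(S) = 1`. -/
theorem mem_scn_of_piPrimeCore_eq_bot [Group.IsSolvable S] (π : Set ℕ) (h2 : 2 ∉ π) (h3 : 3 ∉ π)
    (H : Subgroup S) (hH : Cfsg.IsPiHall π H) (A : Subgroup S)
    (hA : Cfsg.IsSCN ((Cfsg.fittingSubgroup H).map H.subtype) A) (hO : Cfsg.piCore {r | r ∉ π} S = ⊥)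
    {q : ℕ} [hq : Fact q.Prime] (hqπ : q ∈ π) {x : S} {k : ℕ} (hxo : orderOf x = q ^ k)
    (hx : x ∈ centralizer (A : Set S)) : x ∈ A := by
  obtain ⟨hAP, hPA, hPC⟩ := hA
  set P := (Cfsg.fittingSubgroup H).map H.subtype
  set F := Cfsg.fittingSubgroup S
  haveI : F.Normal := H1.fittingSubgroup_normal S
  have hFpi : ∀ r : ℕ, r.Prime → r ∣ Nat.card F → r ∈ π := by
    intro r hr hd
    by_contra hrπ
    haveI := Fact.mk hr
    haveI : (Cfsg.pCore r S).Normal := H1.pCore_normal' r S
    have hbot : Cfsg.pCore r S = ⊥ := by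
      rw [← le_bot_iff, ← hO]
      refine H80.le_piCore inferInstance fun s hs hsd => ?_
      obtain ⟨m, hm⟩ := IsPGroup.iff_card.1 (H1.isPGroup_pCore r S)
      rw [hm] at hsd
      rwa [show s = r from (Nat.prime_dvd_prime_iff_eq hs hr).1 (hs.dvd_of_dvd_pow hsd)]
    haveI : Group.IsNilpotent F := H1.isNilpotent_fittingSubgroup S
    obtain ⟨R⟩ := (inferInstance : Nonempty (Sylow r F))
    haveI : (R : Subgroup F).Characteristic :=
      R.characteristic_of_normal (R.normal_of_normalizerCondition Group.normalizerCondition_of_isNilpotent)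
    have hle : (R : Subgroup F).map F.subtype ≤ Cfsg.pCore r S := H1.le_pCore (R.isPGroup'.map F.subtype)
    rw [hbot, le_bot_iff, Subgroup.map_eq_bot_iff_of_injective _ F.subtype_injective] at hle
    exact R.ne_bot_of_dvd_card hd hle
  have hFH : F ≤ H := by
    have hsup : H80.IsPiGrp π (H ⊔ F) := H80.piGrp_sup_normal hH.1 hFpi
    refine le_trans (le_sup_right : F ≤ H ⊔ F) (relIndex_eq_one.1 ?_)
    by_contra hne
    obtain ⟨r, hr, hrd⟩ := Nat.exists_prime_and_dvd hne
    refine hH.2 r hr (hsup r hr (hrd.trans (relIndex_dvd_card H (H ⊔ F)))) (hrd.trans ?_)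
    exact Dvd.intro _ (relIndex_mul_index le_sup_left)
  have hFP : F ≤ P := by
    rw [← map_subgroupOf_eq_of_le hFH]
    refine map_mono ?_
    exact H1.le_fittingSubgroup (H1.isNilpotent_comap_subtype (H1.isNilpotent_fittingSubgroup S) H)
  have hstep : ∀ y ∈ centralizer (A : Set S), ∀ f ∈ F, y * f * y⁻¹ * f⁻¹ ∈ A := by
    intro y hy f hf
    have hfA := mem_normalizer_iff.1 (hPA (hFP hf))
    have hc : f⁻¹ * (y * f * y⁻¹) ∈ A := by
      rw [← hPC]
      refine ⟨P.mul_mem (P.inv_mem (hFP hf)) (hFP ((inferInstance : F.Normal).conj_mem f hf y)),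
        mem_centralizer_iff.2 fun a ha => ?_⟩
      have h1 : f * a * f⁻¹ * y = y * (f * a * f⁻¹) := mem_centralizer_iff.1 hy _ ((hfA a).1 ha)
      have h2 : a * y = y * a := mem_centralizer_iff.1 hy a ha
      have e1 : (y * f * y⁻¹) * a = f * a * f⁻¹ * (y * f * y⁻¹) := by
        calc (y * f * y⁻¹) * a = y * f * y⁻¹ * (a * y) * y⁻¹ := by group
          _ = y * f * a * y⁻¹ := by rw [h2]; group
          _ = (y * (f * a * f⁻¹)) * f * y⁻¹ := by group
          _ = f * a * f⁻¹ * (y * f * y⁻¹) := by rw [← h1]; group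
      calc a * (f⁻¹ * (y * f * y⁻¹)) = f⁻¹ * (f * a * f⁻¹ * (y * f * y⁻¹)) := by group
        _ = f⁻¹ * (y * f * y⁻¹) * a := by rw [← e1]; group
    have := (hfA _).1 hc
    convert this using 1
    group
  have hfix : ∀ f ∈ F, Commute x (x * f * x⁻¹ * f⁻¹) := fun f hf =>
    (mem_centralizer_iff.1 hx _ (hstep x hx f hf)).symm
  set V := Cfsg.pCore q S
  haveI : V.Normal := H1.pCore_normal' q S
  have hVp : IsPGroup q V := H1.isPGroup_pCore q S
  have hquad : ⁅⁅V, zpowers x⁆, zpowers x⁆ = ⊥ := by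
    rw [commutator_eq_bot_iff_le_centralizer]
    refine commutator_le.2 fun v hv y hy => ?_
    have hyC : y ∈ centralizer (A : Set S) := (zpowers_le.2 hx) hy
    have h1 := A.inv_mem (hstep y hyC v (H1.pCore_le_fitting q hv))
    have h2 : v * y * v⁻¹ * y⁻¹ ∈ A := by convert h1 using 1; group
    rw [mem_centralizer_iff]
    intro z hz
    rw [commutatorElement_def]
    exact ((mem_centralizer_iff.1 ((zpowers_le.2 hx) hz)) _ h2).symm
  have hq5 : 5 ≤ q := by
    have := hq.out.two_le
    rcases (show q = 2 ∨ q = 3 ∨ q = 4 ∨ 5 ≤ q by omega) with rfl | rfl | rfl | h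
    · exact absurd hqπ h2
    · exact absurd hqπ h3
    · exact absurd hq.out (by decide)
    · exact h
  have hst := H6.isPStableOn_of_free (not_involves_sl2_of_solvable (S := S) hq5) (by omega) V hVp x hquad
  set D := (Cfsg.pCore q (S ⧸ centralizer (V : Set S))).comap (QuotientGroup.mk' (centralizer (V : Set S)))
  haveI : D.Normal := (H1.pCore_normal' q _).comap _
  let K : Subgroup S := ⨅ r : {r : ℕ // r.Prime ∧ r ≠ q}, centralizer (Cfsg.pCore (r : ℕ) S : Set S)
  haveI hKn : K.Normal := by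
    refine Subgroup.normal_iInf_normal fun r => ?_
    haveI := H1.pCore_normal' (r : ℕ) S
    infer_instance
  have hxK : x ∈ K := by
    refine mem_iInf.2 fun r => ?_
    haveI := Fact.mk r.2.1
    rw [mem_centralizer_iff]
    intro f hf
    have hfF := H1.pCore_le_fitting (r : ℕ) hf
    obtain ⟨m, hm⟩ := IsPGroup.iff_card.1 (H1.isPGroup_pCore (r : ℕ) S)
    have hcop : (orderOf x).Coprime (Nat.card (Cfsg.pCore (r : ℕ) S)) := by
      rw [hxo, hm]
      exact Nat.Coprime.pow _ _ ((Nat.coprime_primes hq.out r.2.1).2 (Ne.symm r.2.2))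
    haveI := H1.pCore_normal' (r : ℕ) S
    exact (H83.commute_of_fixed_commutator (H := Cfsg.pCore (r : ℕ) S) hcop
      ((Cfsg.pCore (r : ℕ) S).mul_mem (Subgroup.Normal.conj_mem inferInstance f hf x) ((Cfsg.pCore (r : ℕ) S).inv_mem hf))
      (hfix f hfF).eq).symm
  set M := K ⊓ D
  haveI : M.Normal := inferInstance
  have hxM : x ∈ M := ⟨hxK, hst⟩
  have hCF : centralizer (F : Set S) ≤ F := H1.centralizer_fitting_le_of_isSolvable inferInstance
  have hMV : M ⊓ centralizer (V : Set S) ≤ centralizer (F : Set S) := by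
    rw [le_centralizer_iff, show F = _ from H1.fittingSubgroup_eq_iSup_pCore (G := S)]
    refine iSup_le fun r => ?_
    rw [le_centralizer_iff]
    by_cases hr : (r : ℕ) = q
    · rw [hr]; exact inf_le_right
    · exact inf_le_left.trans (inf_le_left.trans (iInf_le
        (fun r : {r : ℕ // r.Prime ∧ r ≠ q} => centralizer (Cfsg.pCore (r : ℕ) S : Set S)) ⟨r, r.2, hr⟩))
  have hMnil : Group.IsNilpotent M := by
    have hq' : IsPGroup q (M ⧸ Subgroup.center M) := by
      intro m
      obtain ⟨m, rfl⟩ := QuotientGroup.mk_surjective m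
      obtain ⟨i, hi⟩ := H1.isPGroup_pCore q (S ⧸ centralizer (V : Set S)) ⟨_, m.2.2⟩
      have hiV : (m : S) ^ q ^ i ∈ centralizer (V : Set S) := by
        rw [← QuotientGroup.eq_one_iff, QuotientGroup.mk_pow]
        exact congrArg Subtype.val hi
      obtain ⟨j, l, hl, hord⟩ := Nat.exists_eq_pow_mul_and_not_dvd (orderOf_pos (m : S)).ne' q hq.out.ne_one
      refine ⟨i + j, ?_⟩
      rw [← QuotientGroup.mk_pow, QuotientGroup.eq_one_iff, mem_center_iff]
      intro g
      apply Subtype.ext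
      show (g : S) * (m : S) ^ q ^ (i + j) = (m : S) ^ q ^ (i + j) * (g : S)
      refine commute_of_primePow_parts (M ⊓ centralizer (V : Set S)) q (fun z hz r k hr hrq hzo => ?_) _ _
        ⟨pow_mem m.2 _, ?_⟩ rfl ?_
      · haveI := Fact.mk hr
        have hzF : z ∈ F := hCF (hMV hz)
        have hzr : z ∈ Cfsg.pCore r S := by
          haveI := H1.pCore_normal' r S
          haveI : Group.IsNilpotent F := H1.isNilpotent_fittingSubgroup S
          obtain ⟨R, hR⟩ := (show IsPGroup r (zpowers (⟨z, hzF⟩ : F)) from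
            IsPGroup.of_card (n := k) (by rw [Nat.card_zpowers, Subgroup.orderOf_mk, hzo])).exists_le_sylow
          haveI : (R : Subgroup F).Characteristic :=
            R.characteristic_of_normal (R.normal_of_normalizerCondition Group.normalizerCondition_of_isNilpotent)
          exact H1.le_pCore (R.isPGroup'.map F.subtype) ⟨_, hR (mem_zpowers _), rfl⟩
        exact (mem_centralizer_iff.1 (mem_iInf.1 g.2.1 ⟨r, hr, hrq⟩) z hzr).symm
      · rw [pow_add, pow_mul]
        exact pow_mem hiV _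
      · intro hd
        refine hl ?_
        have h1 : orderOf ((m : S) ^ q ^ (i + j)) ∣ l := by
          refine orderOf_dvd_of_pow_eq_one ?_
          rw [← pow_mul, ← orderOf_dvd_iff_pow_eq_one, hord, pow_add]
          exact Dvd.intro (q ^ i) (by ring)
        exact hd.trans h1
    exact Group.of_quotient_center_nilpotent hq'.isNilpotent
  rw [← hPC]
  exact ⟨hFP (H1.le_fittingSubgroup hMnil hxM), hx⟩

/-- Every `π`-power element centralising `A` lies in `A`. -/
theorem mem_scn_of_centralizes [Group.IsSolvable S] (π : Set ℕ) (h2 : 2 ∉ π) (h3 : 3 ∉ π)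
    (H : Subgroup S) (hH : Cfsg.IsPiHall π H) (A : Subgroup S)
    (hA : Cfsg.IsSCN ((Cfsg.fittingSubgroup H).map H.subtype) A)
    {q : ℕ} [hq : Fact q.Prime] (hqπ : q ∈ π) {x : S} {k : ℕ} (hxo : orderOf x = q ^ k)
    (hx : x ∈ centralizer (A : Set S)) : x ∈ A := by
  set W := Cfsg.piCore {r | r ∉ π} S
  have hWpi : ∀ r : ℕ, r.Prime → r ∣ Nat.card W → r ∉ π := H80.piCore_piGrp _
  haveI : W.Normal := Cfsg.piCore_normal _ S
  set f := QuotientGroup.mk' W
  have hWH : ∀ z ∈ H, z ∈ W → z = 1 := by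
    intro z hzH hzW
    rw [← orderOf_eq_one_iff]
    by_contra hne
    obtain ⟨r, hr, hrd⟩ := Nat.exists_prime_and_dvd hne
    exact hWpi r hr (hrd.trans (W.orderOf_dvd_natCard hzW)) (hH.1 r hr (hrd.trans (H.orderOf_dvd_natCard hzH)))
  let e : H ≃* H.map f := MulEquiv.ofBijective (f.subgroupMap H) ⟨by
    rw [injective_iff_map_eq_one]
    intro z hz
    exact Subtype.ext (hWH z z.2 ((QuotientGroup.eq_one_iff _).1 (congrArg Subtype.val hz))),
    f.subgroupMap_surjective H⟩
  have hfit : (Cfsg.fittingSubgroup (H.map f)).map (H.map f).subtype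
      = ((Cfsg.fittingSubgroup H).map H.subtype).map f := by
    have he : Cfsg.fittingSubgroup (H.map f) = (Cfsg.fittingSubgroup H).map e.toMonoidHom := by
      refine le_antisymm ?_ (H1.map_fittingSubgroup_le_of_surjective _ e.surjective)
      rw [← map_comap_eq_self_of_surjective (f := e.toMonoidHom) e.surjective (Cfsg.fittingSubgroup (H.map f))]
      refine map_mono ?_
      rw [comap_equiv_eq_map_symm']
      exact H1.map_fittingSubgroup_le_of_surjective _ e.symm.surjective
    rw [he, map_map, map_map]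
    rfl
  obtain ⟨hAP, hPA, hPC⟩ := hA
  set P := (Cfsg.fittingSubgroup H).map H.subtype
  have hPH : P ≤ H := map_subtype_le _
  have hAab : ∀ a ∈ A, a ∈ centralizer (A : Set S) := fun a ha => (hPC.symm ▸ ha : a ∈ P ⊓ _).2
  have hHall : Cfsg.IsPiHall π (H.map f) := by
    refine ⟨fun r hr hd => hH.1 r hr (hd.trans (card_map_dvd H f)), fun r hr hrπ hd => hH.2 r hr hrπ (hd.trans ?_)⟩
    exact index_map_dvd H (QuotientGroup.mk'_surjective W)
  have hA' : Cfsg.IsSCN ((Cfsg.fittingSubgroup (H.map f)).map (H.map f).subtype) (A.map f) := by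
    rw [hfit]
    refine ⟨map_mono hAP, (map_mono hPA).trans (le_normalizer_map f), le_antisymm ?_ ?_⟩
    · rintro _ ⟨⟨z, hz, rfl⟩, hzc⟩
      refine ⟨z, ?_, rfl⟩
      rw [← hPC]
      refine ⟨hz, mem_centralizer_iff.2 fun a ha => ?_⟩
      have h1 : f a * f z = f z * f a := mem_centralizer_iff.1 hzc (f a) ⟨a, ha, rfl⟩
      refine commutatorElement_eq_one_iff_mul_comm.1 (hWH _ ?_ ?_)
      · rw [commutatorElement_def]
        exact H.mul_mem (H.mul_mem (H.mul_mem (hPH (hAP ha)) (hPH hz)) (H.inv_mem (hPH (hAP ha)))) (H.inv_mem (hPH hz))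
      · refine (QuotientGroup.eq_one_iff _).1 ?_
        show f ⁅a, z⁆ = 1
        rw [map_commutatorElement]
        exact commutatorElement_eq_one_iff_mul_comm.2 h1
    · rintro _ ⟨a, ha, rfl⟩
      refine ⟨⟨a, hAP ha, rfl⟩, mem_centralizer_iff.2 ?_⟩
      rintro _ ⟨b, hb, rfl⟩
      rw [← map_mul, ← map_mul, mem_centralizer_iff.1 (hAab a ha) b hb]
  have hO : Cfsg.piCore {r | r ∉ π} (S ⧸ W) = ⊥ := by
    rw [eq_bot_iff]
    set M := Cfsg.piCore {r | r ∉ π} (S ⧸ W)
    haveI : M.Normal := Cfsg.piCore_normal _ _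
    have hle : M.comap f ≤ W := by
      refine H80.le_piCore inferInstance fun r hr hd => ?_
      have h1 : Nat.card (M.comap f) = Nat.card W * Nat.card M := by
        have := relIndex_mul_relIndex ⊥ W (M.comap f) bot_le
          (fun z hz => by rw [mem_comap, show f z = 1 from (QuotientGroup.eq_one_iff z).2 hz]; exact one_mem _)
        rw [relIndex_bot_left, relIndex_bot_left] at this
        rw [← this]
        congr 1
        have h2 := relIndex_comap (⊥ : Subgroup (S ⧸ W)) f (M.comap f)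
        rw [MonoidHom.comap_bot, QuotientGroup.ker_mk', relIndex_bot_left,
          map_comap_eq_self_of_surjective (QuotientGroup.mk'_surjective W)] at h2
        exact h2
      rw [h1] at hd
      rcases hr.dvd_mul.1 hd with h | h
      · exact hWpi r hr h
      · exact H80.piCore_piGrp _ r hr h
    intro z hz
    obtain ⟨z, rfl⟩ := QuotientGroup.mk'_surjective W z
    exact (QuotientGroup.eq_one_iff z).2 (hle hz)
  obtain ⟨j, -, hj⟩ := (Nat.dvd_prime_pow hq.out).1 (hxo ▸ orderOf_map_dvd f x)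
  have hxc : f x ∈ centralizer (A.map f : Set (S ⧸ W)) := mem_centralizer_iff.2 (by
    rintro _ ⟨a, ha, rfl⟩
    rw [← map_mul, ← map_mul, mem_centralizer_iff.1 hx a ha])
  obtain ⟨a, ha, hae⟩ := mem_scn_of_piPrimeCore_eq_bot π h2 h3 (H.map f) hHall (A.map f) hA' hO hqπ hj hxc
  have hw : x * a⁻¹ ∈ W := by
    rw [← QuotientGroup.eq_one_iff]
    show f (x * a⁻¹) = 1
    rw [map_mul, map_inv, hae, mul_inv_cancel]
  have hcom : Commute x a⁻¹ := (show Commute x a from (mem_centralizer_iff.1 hx a ha).symm).inv_right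
  have h1 : x * a⁻¹ = 1 := by
    rw [← orderOf_eq_one_iff]
    by_contra hne
    obtain ⟨r, hr, hrd⟩ := Nat.exists_prime_and_dvd hne
    refine hWpi r hr (hrd.trans (W.orderOf_dvd_natCard hw)) ?_
    rcases hr.dvd_mul.1 ((hrd.trans hcom.orderOf_mul_dvd_lcm).trans (Nat.lcm_dvd_mul _ _)) with h | h
    · rw [hxo] at h
      rwa [(Nat.prime_dvd_prime_iff_eq hr hq.out).1 (hr.dvd_of_dvd_pow h)]
    · rw [orderOf_inv] at h
      exact hH.1 r hr (h.trans (H.orderOf_dvd_natCard (hPH (hAP ha))))
  rwa [mul_inv_eq_one.1 h1]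

end H71
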