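import Cfsg.Agent.H1.Cores
import Cfsg.Agent.H10.PSolvable

set_option autoImplicit false

namespace H71

open Subgroup
open scoped commutatorElement

universe u

/-- A `p`-element normalizing a `p'`-subgroup `Q` of a `p`-solvable group centralizes it, as soon as
`Q` normalizes some Sylow `p`-subgroup. -/
theorem centralizes_of_normalizes_sylow {p : ℕ} [Fact p.Prime] (n : ℕ) :
    ∀ {G : Type u} [Group G] [Finite G], Nat.card G ≤ n → Cfsg.IsPSolvable p G → ∀ (Q : Subgroup G),
      ¬ p ∣ Nat.card Q → ∀ (P : Sylow p G), Q ≤ Subgroup.normalizer ((P : Subgroup G) : Set G) →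
      ∀ x : G, (∀ q ∈ Q, x * q * x⁻¹ ∈ Q) → (∃ k : ℕ, x ^ p ^ k = 1) → ∀ q ∈ Q, x * q * x⁻¹ = q := by
  induction n with
  | zero => intro G _ _ h; exact absurd h (Nat.not_le.mpr Nat.card_pos)
  | succ n ih =>
    intro G _ _ hcard hG Q hQ P hQP x hxQ hxp q hq
    obtain ⟨k, hk⟩ := hxp
    rcases subsingleton_or_nontrivial G with hs | hn
    · exact Subsingleton.elim _ _
    -- the inductive step modulo a normal subgroup
    have step : ∀ N : Subgroup G, N.Normal → N ≠ ⊥ → ⁅x, q⁆ ∈ N := by
      intro N hN hne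
      have hlt : Nat.card (G ⧸ N) < Nat.card G := H10.card_quotient_lt N hne
      have h := ih (G := G ⧸ N) (by omega) (H10.isPSolvable_quotient hG N) (Q.map (QuotientGroup.mk' N))
        (fun h => hQ (h.trans (Subgroup.card_map_dvd Q (QuotientGroup.mk' N))))
        (P.mapSurjective (QuotientGroup.mk'_surjective N)) (by
          rw [Sylow.coe_mapSurjective]
          exact le_trans (Subgroup.map_mono hQP) (Subgroup.le_normalizer_map _))
        (QuotientGroup.mk' N x) (by
          rintro _ ⟨r, hr, rfl⟩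
          exact ⟨x * r * x⁻¹, hxQ r hr, by simp⟩)
        ⟨k, by rw [← map_pow, hk, map_one]⟩ (QuotientGroup.mk' N q) ⟨q, hq, rfl⟩
      rw [← QuotientGroup.eq_one_iff]
      change QuotientGroup.mk' N ⁅x, q⁆ = 1
      rw [commutatorElement_def, map_mul, map_mul, map_mul, map_inv, map_inv, h, mul_inv_cancel]
    have hcQ : ⁅x, q⁆ ∈ Q := by
      rw [commutatorElement_def]; exact Q.mul_mem (hxQ q hq) (Q.inv_mem hq)
    have hpQ : ∀ y ∈ Q, ∀ j : ℕ, y ^ p ^ j = 1 → y = 1 := by
      intro y hy j hj
      rw [← orderOf_eq_one_iff]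
      obtain ⟨i, hi, hij⟩ := (Nat.dvd_prime_pow (Fact.out : p.Prime)).mp (orderOf_dvd_of_pow_eq_one hj)
      rcases Nat.eq_zero_or_pos i with rfl | hipos
      · simpa using hij
      · exact absurd ((dvd_pow_self p hipos.ne').trans (hij ▸ Q.orderOf_dvd_natCard hy)) hQ
    suffices h1 : ⁅x, q⁆ = 1 by
      rw [commutatorElement_def, mul_inv_eq_one] at h1; exact h1
    rcases H10.pCore_or_pPrimeCore_ne_bot hG with hne | hne
    · obtain ⟨j, hj⟩ := H1.isPGroup_pCore p G ⟨_, step _ (H1.pCore_normal' p G) hne⟩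
      exact hpQ _ hcQ j (by simpa using congrArg Subtype.val hj)
    · set N := Cfsg.pPrimeCore p G
      haveI hNn : N.Normal := H1.pPrimeCore_normal' p G
      set Q₂ := Q ⊓ N
      have hc2 : ⁅x, q⁆ ∈ Q₂ := ⟨hcQ, step N hNn hne⟩
      have hNp : ¬ p ∣ Nat.card N := fun h =>
        (Fact.out : p.Prime).ne_one (Nat.dvd_one.mp ((H1.card_pPrimeCore_coprime p G).gcd_eq_one ▸ Nat.dvd_gcd h dvd_rfl))
      have hPC : (P : Subgroup G) ≤ Subgroup.centralizer (Q₂ : Set G) := by
        intro a ha b hb
        have h1 : b * a * b⁻¹ * a⁻¹ ∈ (P : Subgroup G) :=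
          P.mul_mem ((Subgroup.mem_normalizer_iff.mp (hQP hb.1) a).mp ha) (P.inv_mem ha)
        have h2 : b * a * b⁻¹ * a⁻¹ ∈ N := by
          rw [mul_assoc b a, mul_assoc b]
          exact N.mul_mem hb.2 (hNn.conj_mem _ (N.inv_mem hb.2) a)
        have h3 : b * a * b⁻¹ * a⁻¹ = 1 := by
          obtain ⟨j, hj⟩ := P.isPGroup' ⟨_, h1⟩
          have hj' : (b * a * b⁻¹ * a⁻¹) ^ p ^ j = 1 := by simpa using congrArg Subtype.val hj
          rw [← orderOf_eq_one_iff]
          obtain ⟨i, hi, hij⟩ := (Nat.dvd_prime_pow (Fact.out : p.Prime)).mp (orderOf_dvd_of_pow_eq_one hj')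
          rcases Nat.eq_zero_or_pos i with rfl | hipos
          · simpa using hij
          · exact absurd ((dvd_pow_self p hipos.ne').trans (hij ▸ N.orderOf_dvd_natCard h2)) hNp
        rw [mul_inv_eq_one, mul_inv_eq_iff_eq_mul] at h3
        exact h3
      set M := Subgroup.normalizer (Q₂ : Set G)
      have hxM : x ∈ M := by
        have hle : Q₂.map (MulAut.conj x).toMonoidHom ≤ Q₂ := by
          rintro _ ⟨b, ⟨hb1, hb2⟩, rfl⟩
          exact ⟨by simpa using hxQ b hb1, by simpa using hNn.conj_mem b hb2 x⟩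
        exact Subgroup.mem_normalizer_iff_map_conj_eq.mpr (Subgroup.eq_of_le_of_card_ge hle
          (Subgroup.card_map_of_injective (MulAut.conj x).injective).ge)
      haveI : ((Subgroup.centralizer (Q₂ : Set G)).subgroupOf M).Normal := inferInstance
      have hidx : ¬ p ∣ ((Subgroup.centralizer (Q₂ : Set G)).subgroupOf M).index := by
        intro h
        apply P.not_dvd_index
        have h2 : (Subgroup.centralizer (Q₂ : Set G)).relIndex M ∣ (P : Subgroup G).relIndex M :=
          Subgroup.relIndex_dvd_of_le_left M hPC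
        have h3 : (P : Subgroup G).relIndex M ∣ (P : Subgroup G).index :=
          Subgroup.relIndex_dvd_index_of_le (hPC.trans (Subgroup.centralizer_le_normalizer _))
        exact h.trans (h2.trans h3)
      have hxC : x ∈ Subgroup.centralizer (Q₂ : Set G) := by
        set C := (Subgroup.centralizer (Q₂ : Set G)).subgroupOf M
        have h1 : ((⟨x, hxM⟩ : M) : M ⧸ C) ^ p ^ k = 1 := by
          rw [← QuotientGroup.mk_pow]
          convert QuotientGroup.mk_one C using 2
          exact Subtype.ext (by simpa using hk)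
        have h2 : orderOf ((⟨x, hxM⟩ : M) : M ⧸ C) = 1 := by
          obtain ⟨i, hi, hij⟩ := (Nat.dvd_prime_pow (Fact.out : p.Prime)).mp (orderOf_dvd_of_pow_eq_one h1)
          rcases Nat.eq_zero_or_pos i with rfl | hipos
          · simpa using hij
          · exact absurd ((dvd_pow_self p hipos.ne').trans (hij ▸ orderOf_dvd_natCard _)) hidx
        have h3 := (QuotientGroup.eq_one_iff _).mp (orderOf_eq_one_iff.mp h2)
        exact Subgroup.mem_subgroupOf.mp h3
      set c := ⁅x, q⁆ with hc
      have hxc : x * c * x⁻¹ = c := by rw [← hxC c hc2, mul_inv_cancel_right]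
      have hxq : x * q * x⁻¹ = c * q := by simp [hc, commutatorElement_def]
      have hpow : ∀ j : ℕ, x ^ j * q * (x ^ j)⁻¹ = c ^ j * q := by
        intro j
        induction j with
        | zero => simp
        | succ j ihj =>
          rw [pow_succ', mul_inv_rev]
          calc x * x ^ j * q * ((x ^ j)⁻¹ * x⁻¹) = x * (x ^ j * q * (x ^ j)⁻¹) * x⁻¹ := by simp [mul_assoc]
            _ = (x * c * x⁻¹) ^ j * (x * q * x⁻¹) := by rw [ihj, conj_pow]; simp [mul_assoc]
            _ = c ^ (j + 1) * q := by rw [hxc, hxq, pow_succ, mul_assoc]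
      have h1 := hpow (p ^ k)
      rw [hk] at h1
      exact hpQ c hcQ k (by simpa using h1.symm)

end H71
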