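/-
Chief factors of p-solvable groups of p-rank at most two, p odd.
-/
import Cfsg.Agent.H80.Rank2Act
import Cfsg.Agent.H30.CyclicNormal
import Cfsg.Agent.H10.PSolvable
import Cfsg.Agent.H80.Rank2Solv
import Cfsg.Agent.H1.Cores

set_option autoImplicit false

open Subgroup

namespace H71

universe u

/-- In a `p`-group with all elements of order `p` central, `x ^ (p * p) = 1` forces `[g, x] ^ p = 1`
(`p` odd). -/
theorem pcentral_comm {p : ℕ} [hp : Fact p.Prime] (hodd : p ≠ 2) :
    ∀ (n : ℕ) (P : Type u) [Group P] [Finite P], Nat.card P ≤ n → IsPGroup p P →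
      (∀ x : P, x ^ p = 1 → x ∈ Subgroup.center P) →
      ∀ x g : P, (x ^ p) ^ p = 1 → (g * x * g⁻¹ * x⁻¹) ^ p = 1 := by
  intro n
  induction n with
  | zero =>
    intro P _ _ hn
    exact absurd hn (by have := Nat.card_pos (α := P); omega)
  | succ n ih =>
    intro P _ _ hn hP hc x g hx
    by_cases hxy : g * x * g⁻¹ = x
    · rw [hxy, mul_inv_cancel, one_pow]
    set y := g * x * g⁻¹ with hy
    set S := closure ({x, y} : Set P)
    have hS : S ≠ ⊤ := by
      intro h
      have h2 : zpowers x ⊔ frattini P = ⊤ := by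
        rw [eq_top_iff, ← h, closure_le]
        rintro z (rfl | rfl)
        · exact mem_sup_left (mem_zpowers _)
        · have hcm := (H83.frattini_pow_commutator_mem hP).2 g x
          have := mul_mem (mem_sup_right (S := zpowers x) hcm) (mem_sup_left (T := frattini P) (mem_zpowers x))
          rwa [inv_mul_cancel_right] at this
      have h3 := frattini_nongenerating h2
      apply hxy
      obtain ⟨k, hk⟩ := mem_zpowers_iff.1 (h3 ▸ mem_top g : g ∈ zpowers x)
      rw [hy, ← hk, (Commute.zpow_self x k).eq, mul_inv_cancel_right]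
    have hlt : Nat.card S < Nat.card P :=
      lt_of_le_of_ne (card_le_card_group S) fun h => hS (Subgroup.eq_top_of_card_eq S h)
    have hcS : ∀ z : S, z ^ p = 1 → z ∈ Subgroup.center S := fun z hz =>
      mem_center_iff.2 fun w => Subtype.ext
        (mem_center_iff.1 (hc (z : P) (by simpa using congrArg Subtype.val hz)) (w : P))
    have hxS : x ∈ S := subset_closure (Or.inl rfl)
    have hyS : y ∈ S := subset_closure (Or.inr rfl)
    have key := ih S (by omega) (hP.to_subgroup S) hcS ⟨x, hxS⟩ ⟨y⁻¹, inv_mem hyS⟩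
      (Subtype.ext (by simpa using hx))
    have key' : (y⁻¹ * x * y * x⁻¹) ^ p = 1 := by simpa using congrArg Subtype.val key
    set c := (y⁻¹ * x * y * x⁻¹)⁻¹ with hcdef
    have hcp : c ^ p = 1 := by rw [hcdef, inv_pow, key', inv_one]
    have hcc := mem_center_iff.1 (hc c hcp)
    have e : x⁻¹ * y = y * x⁻¹ * c := by
      rw [hcdef]
      group
    rw [H83.mul_pow_prime hp.out hodd e (hcc y).symm (hcc x⁻¹).symm hcp, hy, conj_pow,
      mem_center_iff.1 (hc _ hx) g, mul_inv_cancel_right, inv_pow, mul_inv_cancel]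

/-- In a `p`-group with all elements of order `p` central (`p` odd), an elementary abelian quotient
has order at most that of `Ω₁`. -/
theorem pcentral_index_le {p : ℕ} [hp : Fact p.Prime] (hodd : p ≠ 2) :
    ∀ (n : ℕ) (P : Type u) [Group P] [Finite P], Nat.card P ≤ n → IsPGroup p P →
      ∀ W : Subgroup P, (∀ x : P, x ∈ W ↔ x ^ p = 1) → W ≤ Subgroup.center P →
      ∀ K : Subgroup P, K.Normal → (∀ x : P, x ^ p ∈ K) → K.index ≤ Nat.card W := by
  intro n
  induction n with
  | zero =>
    intro P _ _ hn
    exact absurd hn (by have := Nat.card_pos (α := P); omega)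
  | succ n ih =>
    intro P _ _ hn hP W hW hWc K hK hpow
    rcases subsingleton_or_nontrivial P with hP1 | hP1
    · rw [Subsingleton.elim K ⊤, index_top]
      exact Nat.card_pos
    haveI : W.Normal := ⟨fun w hw g => by rw [mem_center_iff.1 (hWc hw) g, mul_inv_cancel_right]; exact hw⟩
    have hcomm := pcentral_comm hodd _ P le_rfl hP fun x hx => hWc ((hW x).2 hx)
    have hlift : ∀ q : P ⧸ W, q ^ p = 1 → q.out ^ p ∈ W := by
      intro q hq
      rw [← QuotientGroup.eq_one_iff, QuotientGroup.mk_pow, QuotientGroup.out_eq']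
      exact hq
    have hmul : ∀ a b : P, a ^ p ∈ W → b ^ p ∈ W → (a * b) ^ p = a ^ p * b ^ p := by
      intro a b ha hb
      have hcp : ((b⁻¹ * a⁻¹ * b * a)) ^ p = 1 := by
        have h := hcomm a⁻¹ b⁻¹ (by rw [inv_pow, inv_pow, (hW _).1 ha, inv_one])
        simpa using h
      have hcc := mem_center_iff.1 (hWc ((hW _).2 hcp))
      exact H83.mul_pow_prime hp.out hodd (by group) (hcc a).symm (hcc b).symm hcp
    have hcent : ∀ q : P ⧸ W, q ^ p = 1 → q ∈ Subgroup.center (P ⧸ W) := by
      intro q hq
      refine mem_center_iff.2 fun r => ?_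
      obtain ⟨a, rfl⟩ := QuotientGroup.mk_surjective r
      obtain ⟨b, rfl⟩ := QuotientGroup.mk_surjective q
      have hb : b ^ p ∈ W := by rwa [← QuotientGroup.eq_one_iff, QuotientGroup.mk_pow]
      have h1 : (((a * b * a⁻¹ * b⁻¹ : P)) : P ⧸ W) = 1 :=
        (QuotientGroup.eq_one_iff _).2 ((hW _).2 (hcomm b a ((hW _).1 hb)))
      simp only [QuotientGroup.mk_mul, QuotientGroup.mk_inv] at h1
      exact commutatorElement_eq_one_iff_mul_comm.1 h1
    let W' : Subgroup (P ⧸ W) :=
      { carrier := {q | q ^ p = 1}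
        one_mem' := one_pow p
        mul_mem' := fun {a b} ha hb => by
          show (a * b) ^ p = 1
          have hab : Commute a b := mem_center_iff.1 (hcent b hb) a
          rw [hab.mul_pow,
            (ha : a ^ p = 1), (hb : b ^ p = 1), one_mul]
        inv_mem' := fun {a} ha => by
          show a⁻¹ ^ p = 1
          rw [inv_pow, (ha : a ^ p = 1), inv_one] }
    have hW1 : W ≠ ⊥ := by
      obtain ⟨k, hk⟩ := IsPGroup.iff_card.1 hP
      have hk0 : k ≠ 0 := by
        rintro rfl
        rw [pow_zero] at hk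
        exact absurd hk (Finite.one_lt_card (α := P)).ne'
      obtain ⟨z, hz⟩ := exists_prime_orderOf_dvd_card' p (hk ▸ dvd_pow_self p hk0)
      intro h
      have : z ∈ W := (hW z).2 (hz ▸ pow_orderOf_eq_one z)
      rw [h, mem_bot] at this
      rw [this, orderOf_one] at hz
      exact hp.out.one_lt.ne hz
    have hcardlt : Nat.card (P ⧸ W) ≤ n := by
      have := H10.card_quotient_lt W hW1
      omega
    set K' := (K ⊔ W).map (QuotientGroup.mk' W) with hK'
    have hidx : K'.index = (K ⊔ W).index := by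
      rw [hK', index_map_eq _ (QuotientGroup.mk'_surjective W) (by simp)]
    have h1 : K'.index ≤ Nat.card W' := ih (P ⧸ W) hcardlt (hP.to_quotient W) W' (fun q => Iff.rfl)
      (fun q hq => hcent q hq) K' ((inferInstance : (K ⊔ W).Normal).map _ (QuotientGroup.mk'_surjective W))
      fun q => by
        obtain ⟨a, rfl⟩ := QuotientGroup.mk_surjective q
        exact ⟨a ^ p, mem_sup_left (hpow a), by simp⟩
    have h2 : Nat.card W' ≤ Nat.card ↥(W ⊓ K) := by
      refine Nat.card_le_card_of_injective
        (fun q => ⟨q.1.out ^ p, hlift q.1 q.2, hpow _⟩) fun q r hqr => ?_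
      have he : q.1.out ^ p = r.1.out ^ p := congrArg Subtype.val hqr
      have hr' : (r.1.out⁻¹) ^ p ∈ W := by rw [inv_pow]; exact inv_mem (hlift r.1 r.2)
      have h3 : q.1.out * r.1.out⁻¹ ∈ W := by
        rw [hW, hmul _ _ (hlift q.1 q.2) hr', he, inv_pow, mul_inv_cancel]
      apply Subtype.ext
      have := (QuotientGroup.eq_one_iff _).2 h3
      rwa [QuotientGroup.mk_mul, QuotientGroup.mk_inv, QuotientGroup.out_eq', QuotientGroup.out_eq',
        mul_inv_eq_one] at this
    have h3 : K.relIndex (K ⊔ W) = K.relIndex W := by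
      rw [sup_comm]; exact Subgroup.relIndex_sup_right W K
    calc K.index = K.relIndex (K ⊔ W) * (K ⊔ W).index := (relIndex_mul_index le_sup_left).symm
      _ ≤ K.relIndex W * Nat.card ↥(W ⊓ K) := by
          rw [h3]; exact Nat.mul_le_mul_left _ (hidx ▸ h1.trans h2)
      _ = Nat.card W := by
          rw [← inf_relIndex_right, inf_comm, mul_comm,
            ← relIndex_bot_left, relIndex_mul_relIndex _ _ _ bot_le inf_le_left, relIndex_bot_left]

/-- A `p`-subgroup induces a group of order at most `p` on a normal elementary abelian subgroup of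
order at most `p ^ 2`. -/
theorem relIndex_centralizer_le_prime {G : Type*} [Group G] [Finite G] {p : ℕ} [hp : Fact p.Prime]
    (V : Subgroup G) [V.Normal] (hab : ∀ a ∈ V, ∀ b ∈ V, a * b = b * a) (hexp : ∀ a ∈ V, a ^ p = 1)
    (hc : Nat.card V ≤ p ^ 2) {H : Subgroup G} (hH : IsPGroup p H) :
    (centralizer (V : Set G)).relIndex H ≤ p := by
  let _ : CommGroup V :=
    { (inferInstance : Group V) with mul_comm := fun a b => Subtype.ext (hab _ a.2 _ b.2) }
  obtain ⟨f, hf⟩ := H80.mulAut_embeds_gl2 (V := V) (p := p) (fun x => Subtype.ext (by simpa using hexp x x.2)) hc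
  let φ : H →* GL (Fin 2) (ZMod p) := f.comp ((MulAut.conjNormal (H := V)).comp H.subtype)
  have hker : φ.ker = (centralizer (V : Set G)).subgroupOf H := by
    ext h
    rw [MonoidHom.mem_ker, mem_subgroupOf, mem_centralizer_iff]
    constructor
    · intro hh x hx
      have h1 : MulAut.conjNormal (H := V) (h : G) = 1 := hf (by rw [map_one]; exact hh)
      have h2 := congrArg Subtype.val (MulEquiv.congr_fun h1 ⟨x, hx⟩)
      rw [MulAut.conjNormal_apply] at h2
      exact (mul_inv_eq_iff_eq_mul.1 h2).symm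
    · intro hh
      show f (MulAut.conjNormal (H := V) (h : G)) = 1
      rw [show MulAut.conjNormal (H := V) (h : G) = 1 from ?_, map_one]
      ext x
      rw [MulAut.conjNormal_apply, ← hh x x.2, mul_inv_cancel_right]
      rfl
  rw [relIndex, ← hker, index_ker]
  obtain ⟨j, hj⟩ := IsPGroup.iff_card.1 (hH.of_surjective φ.rangeRestrict φ.rangeRestrict_surjective)
  rw [hj]
  have hd : p ^ j ∣ Nat.card (GL (Fin 2) (ZMod p)) := hj ▸ card_subgroup_dvd_card φ.range
  rw [Matrix.card_GL_field, ZMod.card] at hd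
  calc p ^ j ≤ p ^ 1 := Nat.pow_le_pow_right hp.out.pos (by
        by_contra hlt
        have h2 := (pow_dvd_pow p (show 2 ≤ j by omega)).trans hd
        simp only [Fin.prod_univ_two, Fin.val_zero, Fin.val_one, pow_zero, pow_one] at h2
        have hcop : Nat.Coprime p (p ^ 2 - 1) := by
          rw [hp.out.coprime_iff_not_dvd]
          intro hd1
          have hp2 : 1 ≤ p ^ 2 := Nat.one_le_pow _ _ hp.out.pos
          have := Nat.dvd_sub (dvd_pow_self p (two_ne_zero)) hd1
          rw [Nat.sub_sub_self hp2] at this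
          exact hp.out.not_dvd_one this
        have h3 := (Nat.Coprime.pow_left 2 hcop).dvd_of_dvd_mul_left h2
        have hpos : 0 < p ^ 2 - p := by
          have := hp.out.two_le
          have : p < p ^ 2 := by nlinarith
          omega
        have h4 := Nat.le_of_dvd hpos h3
        have := hp.out.pos
        omega)
    _ = p := pow_one p

/-- The case of a `p`-group on top: `H` a normal `p`-subgroup whose proper normal-in-`G` subgroups lie in `K`. -/
theorem chief_in_pgroup {G : Type u} [Group G] [Finite G] {p : ℕ} [hp : Fact p.Prime] (hodd : p ≠ 2)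
    (hr : Cfsg.PRankLE p 2 G) (H K : Subgroup G) [H.Normal] [K.Normal] (hH : IsPGroup p H) (hKH : K < H)
    (hmax : ∀ L : Subgroup G, L.Normal → L ≤ H → L ≠ H → L ≤ K) : K.relIndex H ≤ p ^ 2 := by
  have hrH : ∀ A : Subgroup G, Cfsg.PRankLE p 2 A := fun A =>
    H80.pRankLE_of_le (le_top : A ≤ ⊤) (fun B hB hBe => by
      haveI := hB
      have := hr (B.map (⊤ : Subgroup G).subtype) inferInstance (by
        rintro _ ⟨b, hb, rfl⟩
        simpa using congrArg Subtype.val (hBe b hb))
      rwa [card_map_of_injective (⊤ : Subgroup G).subtype_injective] at this)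
  let good : Subgroup G → Prop := fun Q => Q.Normal ∧ Q ≤ H ∧ (∀ x ∈ Q, x ^ p = 1) ∧
    ∀ x ∈ Q, ∀ y ∈ Q, ∀ z ∈ Q, (x * y * x⁻¹ * y⁻¹) * z = z * (x * y * x⁻¹ * y⁻¹)
  obtain ⟨Q, -, hQm⟩ := Finite.exists_le_maximal (α := Subgroup G) (p := good) (a := ⊥)
    ⟨inferInstance, bot_le, fun x hx => by rw [mem_bot.1 hx, one_pow], fun x hx y hy z hz => by
      simp [mem_bot.1 hx, mem_bot.1 hy, mem_bot.1 hz]⟩
  obtain ⟨hQn, hQH, hexp, hcl⟩ := hQm.prop
  haveI := hQn
  have hmono : ∀ {A : Subgroup G}, A ≤ K → K.relIndex H ≤ A.relIndex H := fun hA =>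
    relIndex_le_of_le_left hA (Subgroup.index_ne_zero_of_finite)
  have hsplit := H80.expP_rank_two hexp hcl (hrH Q)
  by_cases hQe : Q = H
  · subst hQe
    rcases hsplit with ⟨-, hc⟩ | ⟨-, hc3, hcZ⟩
    · refine le_trans (Nat.le_of_dvd Nat.card_pos ?_) hc
      rw [← relIndex_bot_left]
      exact relIndex_dvd_of_le_left _ bot_le
    · have hne : Q ⊓ centralizer (Q : Set G) ≠ Q := fun h => by
        rw [h, hc3] at hcZ
        nlinarith [hp.out.two_le, Nat.pow_le_pow_right hp.out.pos (show 2 ≤ 3 by omega)]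
      refine (hmono (hmax _ inferInstance inf_le_left hne)).trans (le_of_eq ?_)
      rw [inf_relIndex_left]
      have h2 := relIndex_mul_relIndex ⊥ (Q ⊓ centralizer (Q : Set G)) Q bot_le inf_le_left
      rw [relIndex_bot_left, relIndex_bot_left, hcZ, hc3, pow_succ' p 2, inf_relIndex_left] at h2
      exact Nat.eq_of_mul_eq_mul_left hp.out.pos h2
  by_cases hc : H ≤ centralizer (Q : Set G)
  swap
  · have hne : H ⊓ centralizer (Q : Set G) ≠ H := fun h => hc (h ▸ inf_le_right)
    rcases hsplit with ⟨hab, hcard⟩ | ⟨hnab, hc3, hcZ⟩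
    · refine (hmono (hmax _ inferInstance inf_le_left hne)).trans ?_
      rw [inf_relIndex_left]
      exact (relIndex_centralizer_le_prime Q hab hexp hcard hH).trans (Nat.le_self_pow two_ne_zero p)
    set Z := Q ⊓ centralizer (Q : Set G) with hZ
    set V := Q.map (QuotientGroup.mk' Z)
    haveI : V.Normal := hQn.map _ (QuotientGroup.mk'_surjective Z)
    have hVc : Nat.card V ≤ p ^ 2 := by
      have h2 := relIndex_mul_relIndex ⊥ Z Q bot_le inf_le_left
      rw [relIndex_bot_left, relIndex_bot_left, hcZ, hc3, pow_succ' p 2] at h2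
      rw [← relIndex_bot_left, ← Subgroup.map_bot (QuotientGroup.mk' Z), relIndex_map_map,
        QuotientGroup.ker_mk', bot_sup_eq, sup_eq_left.2 (inf_le_left : Z ≤ Q)]
      exact (Nat.eq_of_mul_eq_mul_left hp.out.pos h2).le
    have hVe : ∀ a ∈ V, a ^ p = 1 := by
      rintro _ ⟨a, ha, rfl⟩
      rw [← map_pow, hexp a ha, map_one]
    have hVa : ∀ a ∈ V, ∀ b ∈ V, a * b = b * a := by
      rintro _ ⟨a, ha, rfl⟩ _ ⟨b, hb, rfl⟩
      rw [← commutatorElement_eq_one_iff_mul_comm, ← map_commutatorElement, QuotientGroup.mk'_apply,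
        QuotientGroup.eq_one_iff, commutatorElement_def]
      exact ⟨Q.mul_mem (Q.mul_mem (Q.mul_mem ha hb) (Q.inv_mem ha)) (Q.inv_mem hb),
        mem_centralizer_iff.2 fun z hz => (hcl a ha b hb z hz).symm⟩
    have hT := relIndex_centralizer_le_prime V hVa hVe hVc (hH.map (QuotientGroup.mk' Z))
    set T := H ⊓ (centralizer (V : Set (G ⧸ Z))).comap (QuotientGroup.mk' Z) with hTdef
    by_cases hTe : T = H
    · -- trivial on `Q / Z`
      refine (hmono (hmax _ inferInstance inf_le_left hne)).trans ?_
      rw [inf_relIndex_left]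
      push_neg at hnab
      obtain ⟨x, hx, y, hy, hxy⟩ := hnab
      have hgen : closure ({x, y} : Set G) = Q := by
        have hle : closure ({x, y} : Set G) ≤ Q := by
          rw [closure_le]; rintro z (rfl | rfl) <;> first | exact hx | exact hy
        refine eq_of_le_of_card_ge hle ?_
        obtain ⟨j, hj⟩ := IsPGroup.iff_card.1 ((hH.to_le hQH).to_le hle)
        rw [hc3, hj]
        refine Nat.pow_le_pow_right hp.out.pos ?_
        by_contra hlt
        have hcomm : ∀ a ∈ closure ({x, y} : Set G), ∀ b ∈ closure ({x, y} : Set G), a * b = b * a := by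
          intro a ha b hb
          rcases (show j ≤ 1 ∨ j = 2 by omega) with h | rfl
          · haveI : IsCyclic ↥(closure ({x, y} : Set G)) := by
              rcases (show j = 0 ∨ j = 1 by omega) with rfl | rfl
              · haveI : Subsingleton ↥(closure ({x, y} : Set G)) :=
                  (Nat.card_eq_one_iff_unique.1 (by simpa using hj)).1
                infer_instance
              · exact isCyclic_of_prime_card (p := p) (by simpa using hj)
            exact congrArg Subtype.val
              (IsCyclic.commGroup.mul_comm (⟨a, ha⟩ : closure ({x, y} : Set G)) ⟨b, hb⟩)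
          · exact congrArg Subtype.val
              ((IsPGroup.isMulCommutative_of_card_eq_prime_sq hj).is_comm.comm ⟨a, ha⟩ ⟨b, hb⟩)
        exact hxy (hcomm x (subset_closure (Or.inl rfl)) y (subset_closure (Or.inr rfl)))
      have hin : ∀ h ∈ H, ∀ z ∈ Q, h * z * h⁻¹ * z⁻¹ ∈ Z := by
        intro h hh z hz
        have h1 := (hTe.symm ▸ hh : h ∈ T).2
        change _ ∈ centralizer (V : Set (G ⧸ Z)) at h1
        rw [mem_centralizer_iff] at h1
        have h2 := h1 _ ⟨z, hz, rfl⟩
        rw [← QuotientGroup.eq_one_iff]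
        simp only [QuotientGroup.mk_mul, QuotientGroup.mk_inv]
        exact commutatorElement_eq_one_iff_mul_comm.2 h2.symm
      rw [relIndex, index_eq_card, pow_two, ← hcZ, ← Nat.card_prod]
      refine Nat.card_le_card_of_injective (fun q => (⟨_, hin q.out.1 q.out.2 x hx⟩, ⟨_, hin q.out.1 q.out.2 y hy⟩))
        fun q r hqr => ?_
      simp only [Prod.mk.injEq, Subtype.mk.injEq] at hqr
      refine (QuotientGroup.out_eq' q).symm.trans ((QuotientGroup.eq.2 ?_).trans (QuotientGroup.out_eq' r))
      rw [mem_subgroupOf, mem_centralizer_iff]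
      obtain ⟨e1, e2⟩ := hqr
      have hle : Q ≤ centralizer ({((q.out : H) : G)⁻¹ * (r.out : H)} : Set G) := by
        refine hgen.ge.trans ((closure_le _).2 ?_)
        rintro z (rfl | rfl)
        · refine mem_centralizer_singleton_iff.2 ?_
          have e := mul_right_cancel e1
          calc z * ((↑q.out : G)⁻¹ * ↑r.out) = (↑q.out)⁻¹ * (↑q.out * z * (↑q.out)⁻¹) * ↑r.out := by group
            _ = (↑q.out : G)⁻¹ * ↑r.out * z := by rw [e]; group
        · refine mem_centralizer_singleton_iff.2 ?_
          have e := mul_right_cancel e2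
          calc z * ((↑q.out : G)⁻¹ * ↑r.out) = (↑q.out)⁻¹ * (↑q.out * z * (↑q.out)⁻¹) * ↑r.out := by group
            _ = (↑q.out : G)⁻¹ * ↑r.out * z := by rw [e]; group
      intro z hz
      simpa using mem_centralizer_singleton_iff.1 (hle hz)
    · refine ((hmono (hmax T inferInstance inf_le_left hTe)).trans ?_).trans (Nat.le_self_pow two_ne_zero p)
      rw [hTdef, inf_relIndex_left, relIndex_comap]
      exact hT
  -- `H` centralises `Q`
  haveI : Group.IsNilpotent H := hH.isNilpotent
  have hab : ∀ a ∈ Q, ∀ b ∈ Q, a * b = b * a := fun a ha b hb =>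
    (mem_centralizer_iff.1 (hc (hQH ha)) b hb).symm
  have hcard : Nat.card Q ≤ p ^ 2 := by
    rcases hsplit with ⟨-, h⟩ | ⟨h, -, -⟩
    · exact h
    · exact absurd hab h
  -- a proper quotient of exponent `p`
  have hpow : ∀ x : H, x ^ p ∈ K.subgroupOf H := by
    intro x
    have hsub : (frattini H).map H.subtype ≤ K := hmax _ inferInstance (map_subtype_le _) fun h => by
      have htop : frattini H = ⊤ := map_injective H.subtype_injective (h.trans (H.range_subtype.symm.trans (MonoidHom.range_eq_map _)))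
      haveI : Nontrivial H := (Subgroup.nontrivial_iff_ne_bot H).2 (ne_bot_of_gt hKH)
      obtain ⟨M, hM, -⟩ := (eq_top_or_exists_le_coatom (⊥ : Subgroup H)).resolve_left bot_ne_top
      exact hM.1 (top_le_iff.1 (htop ▸ frattini_le_coatom hM))
    exact hsub ⟨_, (H83.frattini_pow_commutator_mem hH).1 x, rfl⟩
  by_cases hsq : Nat.card Q = p ^ 2
  · let W : Subgroup H := Q.subgroupOf H
    have hWc : W ≤ Subgroup.center H := fun w hw => mem_center_iff.2 fun h =>
      Subtype.ext (mem_centralizer_iff.1 (hc h.2) w hw).symm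
    have hW : ∀ x : H, x ∈ W ↔ x ^ p = 1 := by
      refine fun x => ⟨fun hx => Subtype.ext (by simpa using hexp x hx), fun hx => ?_⟩
      by_contra hxQ
      have hxG : (x : G) ^ p = 1 := by simpa using congrArg Subtype.val hx
      set B := closure ((Q : Set G) ∪ {(x : G)})
      have hBle : B ≤ centralizer (B : Set G) := by
        rw [centralizer_closure, closure_le]
        rintro a (ha | rfl)
        · rintro b (hb | rfl)
          · exact hab b hb a ha
          · exact (mem_centralizer_iff.1 (hc x.2) a ha).symm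
        · rintro b (hb | rfl)
          · exact mem_centralizer_iff.1 (hc x.2) b hb
          · rfl
      have hBe : ∀ b ∈ B, b ^ p = 1 := by
        intro b hb
        refine closure_induction (p := fun b _ => b ^ p = 1) ?_ (one_pow p) ?_ ?_ hb
        · rintro a (ha | rfl)
          exacts [hexp a ha, hxG]
        · intro a c ha hc' e1 e2
          have hac : Commute a c := mem_centralizer_iff.1 (hBle hc') a ha
          rw [hac.mul_pow, e1, e2, one_mul]
        · intro a _ e
          rw [inv_pow, e, inv_one]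
      have hb := hr B ⟨⟨fun a b => Subtype.ext (mem_centralizer_iff.1 (hBle b.2) a a.2)⟩⟩ hBe
      rw [← hsq] at hb
      have := eq_of_le_of_card_ge (show Q ≤ B from fun q hq => subset_closure (Or.inl hq)) hb
      exact hxQ (show (x : G) ∈ Q from this ▸ subset_closure (Or.inr rfl))
    have h := pcentral_index_le hodd _ H le_rfl hH W hW hWc (K.subgroupOf H) inferInstance hpow
    rw [Nat.card_congr (subgroupOfEquivOfLe hQH).toEquiv, hsq] at h
    exact h
  have hKi : ∀ u : H, zpowers u = ⊤ → K.relIndex H ≤ p ^ 2 := by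
    intro u hu
    have hle : zpowers (u ^ p) ≤ K.subgroupOf H := zpowers_le.2 (hpow u)
    refine (Nat.le_of_dvd (Nat.pos_of_ne_zero index_ne_zero_of_finite) (index_dvd_of_le hle)).trans ?_
    have h1 := (zpowers (u ^ p)).card_mul_index
    rw [Nat.card_zpowers, orderOf_pow, ← Nat.card_zpowers u, hu, card_top] at h1
    have hg : Nat.gcd (Nat.card H) p ≤ p := Nat.le_of_dvd hp.out.pos (Nat.gcd_dvd_right _ _)
    have h2 := Nat.div_mul_cancel (Nat.gcd_dvd_left (Nat.card H) p)
    have hpos : 0 < Nat.card H / Nat.gcd (Nat.card H) p :=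
      Nat.div_pos (Nat.le_of_dvd Nat.card_pos (Nat.gcd_dvd_left _ _)) (Nat.gcd_pos_of_pos_right _ hp.out.pos)
    have : (zpowers (u ^ p)).index = Nat.gcd (Nat.card H) p :=
      Nat.eq_of_mul_eq_mul_left hpos (h1.trans (by rw [mul_comm] at h2; linarith))
    calc (zpowers (u ^ p)).index ≤ p := this ▸ hg
      _ ≤ p ^ 2 := Nat.le_self_pow two_ne_zero p
  rcases H30.cyclic_or_normal_square_or_invCyclic hH with hcyc | ⟨E, hEn, hEc, hEe, hE2⟩ | ⟨h2, -⟩
  · obtain ⟨u, hu⟩ := (isCyclic_iff_exists_zpowers_eq_top).1 hcyc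
    exact hKi u hu
  · exfalso
    haveI := hEn
    have hmemQ : ∀ z ∈ Q, ∀ h ∈ H, h * z = z * h := fun z hz h hh => (mem_centralizer_iff.1 (hc hh) z hz).symm
    let S : Set G := {z | z ∈ H ∧ z ^ p = 1 ∧ ∀ h ∈ H, h * z * h⁻¹ * z⁻¹ ∈ H ⊓ centralizer (H : Set G)}
    have hSmul : ∀ a b : G, a ∈ S → b ∈ S → a * b ∈ S := by
      rintro a b ⟨ha, hap, hac⟩ ⟨hb, hbp, hbc⟩
      have hpc : ∀ h ∈ H, ∀ w ∈ H, Commute (h * b * h⁻¹ * b⁻¹) w := fun h hh w hw =>
        (mem_centralizer_iff.1 (hbc h hh).2 w hw).symm
      refine ⟨mul_mem ha hb, ?_, fun h hh => ?_⟩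
      · set c := b⁻¹ * a⁻¹ * b * a with hcdef
        have h1 : ∀ w ∈ H, Commute (a⁻¹ * b * a * b⁻¹) w := fun w hw => by
          simpa using hpc a⁻¹ (inv_mem ha) w hw
        have hcm : c = a⁻¹ * b * a * b⁻¹ := by
          have e := (h1 b⁻¹ (inv_mem hb)).eq
          rw [hcdef]
          calc b⁻¹ * a⁻¹ * b * a = b⁻¹ * (a⁻¹ * b * a * b⁻¹) * b := by group
            _ = a⁻¹ * b * a * b⁻¹ := by rw [← e]; group
        have hcp : c ^ p = 1 := by
          have e1 : (a⁻¹ * b * a * b⁻¹) * b = a⁻¹ * b * a := by group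
          have e2 := (h1 b hb).mul_pow p
          rw [e1, hbp, mul_one] at e2
          have e3 := conj_pow (i := p) (a := a⁻¹) (b := b)
          rw [inv_inv] at e3
          rw [hcm, ← e2, e3, hbp]
          group
        rw [H83.mul_pow_prime hp.out hodd (show b * a = a * b * c by rw [hcdef]; group)
          (hcm ▸ (h1 a ha).eq) (hcm ▸ (h1 b hb).eq) hcp, hap, hbp, one_mul]
      · have e : h * (a * b) * h⁻¹ * (a * b)⁻¹ = (h * a * h⁻¹ * a⁻¹) * (h * b * h⁻¹ * b⁻¹) := by
          calc h * (a * b) * h⁻¹ * (a * b)⁻¹ = (h * a * h⁻¹) * (h * b * h⁻¹ * b⁻¹) * a⁻¹ := by group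
            _ = (h * a * h⁻¹ * a⁻¹) * (a * (h * b * h⁻¹ * b⁻¹)) * a⁻¹ := by group
            _ = (h * a * h⁻¹ * a⁻¹) * (h * b * h⁻¹ * b⁻¹) := by rw [← (hpc h hh a ha).eq]; group
        rw [e]
        exact mul_mem (hac h hh) (hbc h hh)
    let R : Subgroup G :=
      { carrier := S
        one_mem' := ⟨one_mem _, one_pow p, fun h _ => by
          rw [mul_one, mul_inv_cancel, inv_one, mul_one]; exact one_mem _⟩
        mul_mem' := fun {a b} => hSmul a b
        inv_mem' := fun {a} ha => by
          obtain ⟨ha, hap, hac⟩ := ha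
          refine ⟨inv_mem ha, by rw [inv_pow, hap, inv_one], fun h hh => ?_⟩
          have e := mem_centralizer_iff.1 (hac h hh).2 a ha
          have : h * a⁻¹ * h⁻¹ * a⁻¹⁻¹ = (h * a * h⁻¹ * a⁻¹)⁻¹ := by
            calc h * a⁻¹ * h⁻¹ * a⁻¹⁻¹ = a⁻¹ * (h * a * h⁻¹ * a⁻¹)⁻¹ * a := by group
              _ = (h * a * h⁻¹ * a⁻¹)⁻¹ := by
                rw [(Commute.inv_inv (show Commute a (h * a * h⁻¹ * a⁻¹) from e)).eq]; group
          rw [this]
          exact inv_mem (hac h hh) }
    have hHn : H.Normal := inferInstance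
    have hRn : R.Normal := ⟨fun z hz g => by
      refine ⟨hHn.conj_mem z hz.1 g, by rw [conj_pow, hz.2.1, mul_one, mul_inv_cancel], fun h hh => ?_⟩
      have h' := hz.2.2 (g⁻¹ * h * g) (by simpa using hHn.conj_mem h hh g⁻¹)
      have hZn : (H ⊓ centralizer (H : Set G)).Normal := inferInstance
      have := hZn.conj_mem _ h' g
      convert this using 1
      group⟩
    have hQR : Q ≤ R := fun z hz => ⟨hQH hz, hexp z hz, fun h hh => by
      rw [hmemQ z hz h hh, mul_inv_cancel_right, mul_inv_cancel]; exact one_mem _⟩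
    have hRQ : R ≤ Q := hQm.le_of_ge ⟨hRn, fun z hz => hz.1, fun z hz => hz.2.1,
      fun x hx y hy z hz => (mem_centralizer_iff.1 (hy.2.2 x hx.1).2 z hz.1).symm⟩ hQR
    have hER : E.map H.subtype ≤ R := by
      rintro _ ⟨e, he, rfl⟩
      refine ⟨e.2, by simpa using congrArg Subtype.val (hEe e he), fun h hh => ?_⟩
      have hkey : ⟨h, hh⟩ * e * ⟨h, hh⟩⁻¹ * e⁻¹ ∈ Subgroup.center H := by
        have h1 : E ⊓ Subgroup.center H ≠ ⊥ := H80.pgroup_normal_inf_center_ne_bot hH E (fun hb => by
          rw [hb, card_bot] at hE2; nlinarith [hp.out.two_le])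
        set Eb := E.map (QuotientGroup.mk' (Subgroup.center H))
        haveI : Eb.Normal := hEn.map _ (QuotientGroup.mk'_surjective _)
        have hEb : Nat.card Eb ≤ p := by
          rw [← relIndex_bot_left, ← Subgroup.map_bot (QuotientGroup.mk' (Subgroup.center H)), relIndex_map_map,
            QuotientGroup.ker_mk', bot_sup_eq, relIndex_sup_right]
          obtain ⟨j, hj⟩ := IsPGroup.iff_card.1 ((hH.to_subgroup E).to_le (inf_le_left : E ⊓ Subgroup.center H ≤ E))
          have h2 := relIndex_mul_relIndex ⊥ (E ⊓ Subgroup.center H) E bot_le inf_le_left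
          rw [relIndex_bot_left, relIndex_bot_left, hE2, inf_relIndex_left, hj] at h2
          have hj1 : p ≤ p ^ j := Nat.le_self_pow (fun hz => h1 (card_eq_one.1 (by rw [hj, hz, pow_zero]))) p
          have h3 := Nat.mul_le_mul_right ((Subgroup.center H).relIndex E) hj1
          rw [h2, pow_two] at h3
          exact Nat.le_of_mul_le_mul_left h3 hp.out.pos
        have h2 : Eb ≤ Subgroup.center _ := by
          by_cases hb : Eb = ⊥
          · rw [hb]; exact bot_le
          have h3 := H80.pgroup_normal_inf_center_ne_bot (hH.to_quotient (Subgroup.center H)) Eb hb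
          obtain ⟨j, hj⟩ := IsPGroup.iff_card.1 (((hH.to_quotient (Subgroup.center H)).to_subgroup Eb).to_le
            (inf_le_left : Eb ⊓ Subgroup.center _ ≤ Eb))
          have hj1 : p ≤ p ^ j := Nat.le_self_pow (fun hz => h3 (card_eq_one.1 (by rw [hj, hz, pow_zero]))) p
          rw [← eq_of_le_of_card_ge (inf_le_left : Eb ⊓ Subgroup.center _ ≤ Eb) (hEb.trans (hj ▸ hj1))]
          exact inf_le_right
        have h4 := mem_center_iff.1 (h2 ⟨e, he, rfl⟩) (QuotientGroup.mk' _ ⟨h, hh⟩)
        rw [← QuotientGroup.eq_one_iff]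
        exact commutatorElement_eq_one_iff_mul_comm.2 h4
      refine ⟨H.mul_mem (H.mul_mem (H.mul_mem hh e.2) (H.inv_mem hh)) (H.inv_mem e.2), mem_centralizer_iff.2 fun w hw => ?_⟩
      exact congrArg Subtype.val (mem_center_iff.1 hkey ⟨w, hw⟩)
    refine hsq (le_antisymm hcard ?_)
    rw [← hE2, ← card_map_of_injective H.subtype_injective]
    exact card_le_of_le (hER.trans hRQ)
  · exact absurd h2 hodd

/-- The `p`-chief factors of a `p`-solvable group of `p`-rank at most two (`p` odd) have order at most `p ^ 2`. -/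
theorem psolvable_chief_le {p : ℕ} [hp : Fact p.Prime] (hodd : p ≠ 2) :
    ∀ (n : ℕ) (G : Type u) [Group G] [Finite G], Nat.card G ≤ n → Cfsg.IsPSolvable p G → Cfsg.PRankLE p 2 G →
      ∀ H K : Subgroup G, H.Normal → K.Normal → K < H → ∀ j : ℕ, K.relIndex H = p ^ j →
      (∀ L : Subgroup G, L.Normal → K ≤ L → L ≤ H → L = K ∨ L = H) → j ≤ 2 := by
  intro n
  induction n with
  | zero =>
    intro G _ _ hn
    exact absurd hn (by have := Nat.card_pos (α := G); omega)
  | succ n ih =>
    intro G _ _ hn hsol hr H K hH hK hKH j hj hchief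
    haveI := hH
    haveI := hK
    by_cases hN : Cfsg.pPrimeCore p G = ⊥
    swap
    · set N := Cfsg.pPrimeCore p G with hNdef
      haveI : N.Normal := H1.pPrimeCore_normal' p G
      have hNc : ¬ p ∣ Nat.card N :=
        (hp.out.coprime_iff_not_dvd).1 (H1.card_pPrimeCore_coprime p G).symm
      have hM : (K ⊔ N) ⊓ H = K := by
        rcases hchief ((K ⊔ N) ⊓ H) inferInstance (le_inf le_sup_left hKH.le) inf_le_right with h | h
        · exact h
        · exfalso
          have hle : H ≤ K ⊔ N := inf_eq_right.1 h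
          have hd : K.relIndex H ∣ Nat.card N := by
            refine dvd_trans ?_ (relIndex_bot_left N ▸ relIndex_dvd_of_le_left N (bot_le : (⊥ : Subgroup G) ≤ K))
            rw [← Subgroup.relIndex_sup_right N K, sup_comm]
            exact Dvd.intro _ (relIndex_mul_relIndex K H (K ⊔ N) hKH.le hle)
          rw [hj] at hd
          rcases j with _ | j
          · exact (not_le_of_gt hKH) (relIndex_eq_one.1 (by rw [hj, pow_zero]))
          · exact hNc ((dvd_pow_self p j.succ_ne_zero).trans hd)
      set f := QuotientGroup.mk' N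
      have hf : Function.Surjective f := QuotientGroup.mk'_surjective N
      have hrel : (K.map f).relIndex (H.map f) = p ^ j := by
        rw [relIndex_map_map, QuotientGroup.ker_mk']
        have h1 : (K ⊔ N).relIndex (H ⊔ N) = (K ⊔ N).relIndex H := by
          rw [← Subgroup.relIndex_sup_right H (K ⊔ N), ← sup_assoc, sup_eq_left.2 hKH.le]
        rw [h1, ← inf_relIndex_right, hM, hj]
      have hlt : K.map f < H.map f := by
        refine lt_of_le_of_ne (map_mono hKH.le) fun h => ?_
        rw [h, relIndex_self] at hrel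
        rcases j with _ | j
        · exact (not_le_of_gt hKH) (relIndex_eq_one.1 (by rw [hj, pow_zero]))
        · exact absurd hrel.symm (Nat.one_lt_pow j.succ_ne_zero hp.out.one_lt).ne'
      refine ih (G ⧸ N) (by have := H10.card_quotient_lt N hN; omega) (H10.isPSolvable_quotient hsol N)
        (H80.pRankLE_quotient_coprime N hNc hr) (H.map f) (K.map f) (hH.map f hf) (hK.map f hf) hlt j hrel
        fun L hL hKL hLH => ?_
      haveI := hL
      have hNL : N ≤ L.comap f := fun x hx => by
        rw [mem_comap, show f x = 1 from (QuotientGroup.eq_one_iff x).2 hx]; exact one_mem _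
      have hKL' : K ≤ L.comap f := map_le_iff_le_comap.1 hKL
      have hLH' : L.comap f ≤ H ⊔ N := by
        refine le_trans (comap_mono hLH) (le_of_eq ?_)
        rw [comap_map_eq, QuotientGroup.ker_mk']
      have hmod : L.comap f = (L.comap f ⊓ H) ⊔ N := by
        refine le_antisymm (fun x hx => ?_) (sup_le inf_le_left hNL)
        obtain ⟨a, ha, b, hb, rfl⟩ := mem_sup_of_normal_right.1 (hLH' hx)
        refine mul_mem_sup ⟨?_, ha⟩ hb
        have := mul_mem hx (inv_mem (hNL hb))
        rwa [mul_inv_cancel_right] at this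
      have hN0 : N.map f = ⊥ := by
        rw [Subgroup.map_eq_bot_iff, QuotientGroup.ker_mk']
      rcases hchief (L.comap f ⊓ H) inferInstance (le_inf hKL' hKH.le) inf_le_right with h | h
      · left
        rw [← map_comap_eq_self_of_surjective hf L, hmod, h, Subgroup.map_sup, hN0, sup_bot_eq]
      · right
        rw [← map_comap_eq_self_of_surjective hf L, hmod, h, Subgroup.map_sup, hN0, sup_bot_eq]
    set P := Cfsg.pCore p G with hPdef
    haveI : P.Normal := Cfsg.pCore_normal p G
    rcases hchief ((H ⊓ P) ⊔ K) inferInstance le_sup_right (sup_le inf_le_left hKH.le) with h | h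
    · have hle : H ⊓ P ≤ K := h ▸ le_sup_left
      have hPp : IsPGroup p P := H1.isPGroup_pCore p G
      obtain ⟨f, hf⟩ := H80.rank2_hom_general hodd hPp (H80.pRankLE_subgroup P hr) (A := (⊤ : Subgroup G))
        (le_normalizer_of_normal (H := P))
      set g : G →* GL (Fin 2) (ZMod p) := f.comp Subgroup.topEquiv.symm.toMonoidHom
      have hker : g.ker ≤ P := by
        haveI : g.ker.Normal := inferInstance
        refine H1.le_pCore fun x => ?_
        obtain ⟨k, hk⟩ := hf ⟨(x : G), mem_top _⟩ x.2
        obtain ⟨l, hl⟩ := hPp ⟨_, H10.centralizer_pCore_le hsol hN hk⟩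
        refine ⟨k + l, Subtype.ext ?_⟩
        have := congrArg Subtype.val hl
        simp only [SubmonoidClass.coe_pow, OneMemClass.coe_one] at this
        rw [SubmonoidClass.coe_pow, OneMemClass.coe_one, pow_add, pow_mul]
        exact this
      have hd : K.relIndex H ∣ Nat.card (GL (Fin 2) (ZMod p)) := by
        refine (relIndex_dvd_of_le_left H hle).trans ?_
        rw [inf_relIndex_left]
        refine (relIndex_dvd_index_of_normal P H).trans ((index_dvd_of_le hker).trans ?_)
        rw [index_ker]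
        exact card_subgroup_dvd_card _
      rw [hj, Matrix.card_GL_field, ZMod.card] at hd
      by_contra hlt
      have h2 := (pow_dvd_pow p (show 2 ≤ j by omega)).trans hd
      simp only [Fin.prod_univ_two, Fin.val_zero, Fin.val_one, pow_zero, pow_one] at h2
      have hcop : Nat.Coprime p (p ^ 2 - 1) := by
        rw [hp.out.coprime_iff_not_dvd]
        intro hd1
        have hp2 : 1 ≤ p ^ 2 := Nat.one_le_pow _ _ hp.out.pos
        have := Nat.dvd_sub (dvd_pow_self p (two_ne_zero)) hd1
        rw [Nat.sub_sub_self hp2] at this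
        exact hp.out.not_dvd_one this
      have hsq : p < p ^ 2 := by have := hp.out.two_le; nlinarith
      have h4 := Nat.le_of_dvd (by omega) ((Nat.Coprime.pow_left 2 hcop).dvd_of_dvd_mul_left h2)
      have := hp.out.pos
      omega
    · -- a minimal normal `p`-subgroup covering the factor
      obtain ⟨H', hle', hmin⟩ := Finite.exists_le_minimal (α := Subgroup G)
        (p := fun A => A.Normal ∧ A ≤ H ⊓ P ∧ A ⊔ K = H) (a := H ⊓ P) ⟨inferInstance, le_rfl, h⟩
      obtain ⟨hH'n, hH'le, hH'K⟩ := hmin.prop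
      haveI := hH'n
      have hrel : K.relIndex H = (K ⊓ H').relIndex H' := by
        rw [inf_relIndex_right, ← hH'K, Subgroup.relIndex_sup_right H' K]
      have hlt : K ⊓ H' < H' := lt_of_le_of_ne inf_le_right fun he => by
        rw [sup_eq_right.2 (inf_eq_right.1 he)] at hH'K
        exact hKH.ne hH'K
      have := chief_in_pgroup hodd hr H' (K ⊓ H') ((H1.isPGroup_pCore p G).to_le (hH'le.trans inf_le_right)) hlt
        fun L hL hLH' hne => by
          haveI := hL
          refine le_inf ?_ hLH'
          rcases hchief (L ⊔ K) inferInstance le_sup_right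
            (sup_le (hLH'.trans (hH'le.trans inf_le_left)) hKH.le) with e | e
          · exact e ▸ le_sup_left
          · exact absurd (le_antisymm hLH' (hmin.le_of_le ⟨hL, hLH'.trans hH'le, e⟩ hLH')) hne
      rw [← hrel, hj] at this
      exact (Nat.pow_le_pow_iff_right hp.out.one_lt).1 this

end H71
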